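import Groth.Agent.GrpSchLib.NormalQuot
import Groth.Agent.GrpSchLib.ProPoints
import Groth.Agent.ComodLib.HopfSubInv
import Groth.Agent.S4103
import Groth.Agent.S5375
import Groth.Prelude.Def_SGA3
import Mathlib.RingTheory.HopfAlgebra.Quotient

/-!
# Normal Hopf ideals and Hopf subalgebras
-/

universe u

set_option autoImplicit false
set_option backward.isDefEq.respectTransparency false
set_option backward.isDefEq.respectTransparency.types false

open TensorProduct WithConv

namespace Groth.Agent.TakeuchiLib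

variable {k : Type u} [Field k] {A : Type u} [CommRing A] [HopfAlgebra k A]

theorem conv3_eq {R : Type u} [CommRing R] [Algebra k R] (f g h : A →ₐ[k] R) :
    Dyn.conv3 k A f g h = (toConv f * toConv g * toConv h).ofConv := by
  ext a
  rw [AlgHom.convMul_apply]
  simp only [Dyn.conv3, AlgHom.comp_apply, Bialgebra.comulAlgHom_apply, ofConv_toConv]
  induction Coalgebra.comul (R := k) a using TensorProduct.induction_on with
  | zero => simp
  | tmul p q =>
    simp only [Algebra.TensorProduct.map_tmul, AlgHom.comp_apply, Bialgebra.comulAlgHom_apply, AlgHom.id_apply,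
      Algebra.TensorProduct.lmul'_apply_tmul, Algebra.TensorProduct.lift_tmul]
    rw [AlgHom.convMul_apply]
    simp only [ofConv_toConv]
    congr 1
    induction Coalgebra.comul (R := k) p using TensorProduct.induction_on with
    | zero => simp
    | tmul x y => simp
    | add x y hx hy => simp only [map_add, hx, hy]
  | add x y hx hy => simp only [map_add, hx, hy]

theorem comp_conv3 {S T : Type u} [CommRing S] [Algebra k S] [CommRing T] [Algebra k T] (φ : S →ₐ[k] T)
    (f₁ f₂ f₃ : A →ₐ[k] S) :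
    φ.comp (Dyn.conv3 k A f₁ f₂ f₃) = Dyn.conv3 k A (φ.comp f₁) (φ.comp f₂) (φ.comp f₃) := by
  rw [conv3_eq, conv3_eq, AlgHom.comp_convMul_distrib, toConv_ofConv, AlgHom.comp_convMul_distrib, toConv_ofConv]

/-- Normality of a Hopf ideal as normality on points. -/
theorem isNormalPts_mk (I : Ideal A) [I.IsHopfIdeal k] (hI : SGA3.IsNormalHopfIdeal k A I) :
    ComodLib.Normal.IsNormalPts (Bialgebra.Quotient.mkBialgHom (R := k) I) := by
  intro R _ _ g n
  let h : A →ₐ[k] R := n.comp (Ideal.Quotient.mkₐ k I)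
  let gi : A →ₐ[k] R := g.comp (HopfAlgebra.antipodeAlgHom k A)
  have hgi : gi.comp (HopfAlgebra.antipodeAlgHom k A) = g := AlgHom.ext fun a => by
    show g (HopfAlgebra.antipode k (HopfAlgebra.antipode k a)) = g a
    rw [ComodLib.antipode_antipode_apply]
  have hk : ∀ a ∈ I, Dyn.conv3 k A gi h g a = 0 := by
    have := hI R gi h (fun a ha => by
      show n (Ideal.Quotient.mk I a) = 0
      rw [Ideal.Quotient.eq_zero_iff_mem.mpr ha, map_zero])
    rwa [hgi] at this
  refine ⟨Ideal.Quotient.liftₐ I _ hk, ?_⟩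
  have e : (Ideal.Quotient.liftₐ I _ hk).comp (Ideal.Quotient.mkₐ k I) = Dyn.conv3 k A gi h g :=
    AlgHom.ext fun a => rfl
  show toConv h * toConv g = toConv g * toConv ((Ideal.Quotient.liftₐ I _ hk).comp (Ideal.Quotient.mkₐ k I))
  rw [e, conv3_eq, toConv_ofConv, ← mul_assoc, ← mul_assoc,
    show toConv g * toConv gi = 1 from GrpSchLib.HopfQuot.self_convMul_inv g, one_mul]

/-- Finite type case. -/
theorem exists_fg [Algebra.FiniteType k A] (I : Ideal A) [I.IsHopfIdeal k] (hI : SGA3.IsNormalHopfIdeal k A I) :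
    ∃ C : Subalgebra k A, C.FG ∧ SGA3.IsHopfSubalgebra k A C ∧ I = SGA3.augIdealSpan k A C := by
  obtain ⟨C, hf, hC, hker⟩ := ComodLib.Normal.exists_hopf_subalgebra (isNormalPts_mk I hI)
    (show Function.Surjective (Bialgebra.Quotient.mkBialgHom (R := k) I) from Ideal.Quotient.mk_surjective)
  refine ⟨C, hf, hC, ?_⟩
  rw [SGA3.augIdealSpan, ← hker]
  ext a
  rw [RingHom.mem_ker]
  exact (Ideal.Quotient.eq_zero_iff_mem).symm

theorem isHopfIdeal_ker {T : Type u} [CommRing T] [Bialgebra k T] (f : A →ₐc[k] T)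
    (hS : ∀ a, f a = 0 → f (HopfAlgebra.antipode k a) = 0) :
    (RingHom.ker (f : A →ₐ[k] T)).IsHopfIdeal k := by
  let I := RingHom.ker (f : A →ₐ[k] T)
  refine @Ideal.IsHopfIdeal.mk _ _ _ _ _ I ⟨fun z hz => ?_, fun z hz => ?_⟩ fun z hz => hS z hz
  · have hz' : f z = 0 := hz
    rw [← CoalgHomClass.counit_comp_apply f z, hz', map_zero]
  · have hz' : f z = 0 := hz
    let ι := (I.restrictScalars k).liftQ (f : A →ₐ[k] T).toLinearMap (fun a ha => ha)
    have hι : Function.Injective ι := by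
      rw [← LinearMap.ker_eq_bot]
      exact Submodule.ker_liftQ_eq_bot _ _ _ fun a ha => ha
    have h := CoalgHomClass.map_comp_comul_apply f z
    rw [hz', map_zero] at h
    refine TensorProduct.map_injective_of_flat_flat ι ι hι hι ?_
    rw [map_zero]
    refine Eq.trans ?_ h
    induction Coalgebra.comul (R := k) z using TensorProduct.induction_on with
    | zero => simp
    | tmul a b => simp [ι]
    | add s t hs ht => simp only [map_add, hs, ht]

/-- An element of a Hopf subalgebra is congruent to its counit modulo the augmentation ideal. -/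
theorem sub_counit_mem (B : Subalgebra k A) {b : A} (hb : b ∈ B) :
    b - algebraMap k A (Coalgebra.counit (R := k) b) ∈ SGA3.augIdealSpan k A B :=
  Ideal.subset_span ⟨B.sub_mem hb (B.algebraMap_mem _), by
    show Coalgebra.counit (R := k) (b - algebraMap k A (Coalgebra.counit (R := k) b)) = 0
    rw [map_sub, Bialgebra.counit_algebraMap, sub_self]⟩

/-- The intersection of a normal Hopf ideal with a Hopf subalgebra is normal. -/
theorem comap_normal (I : Ideal A) [I.IsHopfIdeal k] (hI : SGA3.IsNormalHopfIdeal k A I)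
    (D : Subalgebra k A) (hD : SGA3.IsHopfSubalgebra k A D) :
    letI := GrpSchLib.SubHopf.hopf D hD
    (I.comap (D.val : D →+* A)).IsHopfIdeal k ∧ SGA3.IsNormalHopfIdeal k D (I.comap (D.val : D →+* A)) := by
  letI := GrpSchLib.SubHopf.hopf D hD
  let j : D →ₐc[k] A := BialgHom.ofAlgHom D.val rfl (AlgHom.ext fun c => GrpSchLib.SubHopf.map_comulRes D hD c)
  let π := Bialgebra.Quotient.mkBialgHom (R := k) I
  have hker : I.comap (D.val : D →+* A) = RingHom.ker ((π.comp j : D →ₐc[k] A ⧸ I) : D →ₐ[k] A ⧸ I) := by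
    ext d
    exact (Ideal.Quotient.eq_zero_iff_mem (I := I) (a := D.val d)).symm
  refine ⟨?_, ?_⟩
  · rw [hker]
    refine isHopfIdeal_ker (π.comp j) fun a ha => ?_
    show Ideal.Quotient.mk I (D.val (HopfAlgebra.antipode k a)) = 0
    refine Ideal.Quotient.eq_zero_iff_mem.mpr ?_
    exact Ideal.IsHopfIdeal.antipode_mem (R := k) (Ideal.Quotient.eq_zero_iff_mem.mp ha)
  intro R _ _ g h hh a ha
  -- the universal pair
  let gu : A →ₐ[k] A ⊗[k] (A ⧸ I) := Algebra.TensorProduct.includeLeft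
  let hu : A →ₐ[k] A ⊗[k] (A ⧸ I) :=
    (Algebra.TensorProduct.includeRight : A ⧸ I →ₐ[k] A ⊗[k] (A ⧸ I)).comp (Ideal.Quotient.mkₐ k I)
  have hu0 : Dyn.conv3 k A gu hu (gu.comp (HopfAlgebra.antipodeAlgHom k A)) (D.val a) = 0 :=
    hI _ gu hu (fun x hx => by
      show (1 : A) ⊗ₜ[k] Ideal.Quotient.mk I x = 0
      rw [Ideal.Quotient.eq_zero_iff_mem.mpr hx, TensorProduct.tmul_zero]) _ ha
  let J := I.comap (D.val : D →+* A)
  let gd : D →ₐ[k] D ⊗[k] (D ⧸ J) := Algebra.TensorProduct.includeLeft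
  let hd : D →ₐ[k] D ⊗[k] (D ⧸ J) :=
    (Algebra.TensorProduct.includeRight : D ⧸ J →ₐ[k] D ⊗[k] (D ⧸ J)).comp (Ideal.Quotient.mkₐ k J)
  let q : D ⧸ J →ₐ[k] A ⧸ I := Ideal.Quotient.liftₐ J ((Ideal.Quotient.mkₐ k I).comp D.val) fun x hx =>
    Ideal.Quotient.eq_zero_iff_mem.mpr hx
  have hq : Function.Injective q := by
    rw [injective_iff_map_eq_zero]
    intro x hx
    obtain ⟨y, rfl⟩ := Ideal.Quotient.mk_surjective x
    exact Ideal.Quotient.eq_zero_iff_mem.mpr (Ideal.Quotient.eq_zero_iff_mem.mp hx : D.val y ∈ I)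
  let Φ : D ⊗[k] (D ⧸ J) →ₐ[k] A ⊗[k] (A ⧸ I) := Algebra.TensorProduct.map D.val q
  have hΦ : Function.Injective Φ := GrpSchLib.SubHopf.map_val_injective _ _ Subtype.val_injective hq
  let Ψ : D ⊗[k] (D ⧸ J) →ₐ[k] R := Algebra.TensorProduct.lift g (Ideal.Quotient.liftₐ J h hh) fun _ _ => Commute.all _ _
  have e1 : Ψ.comp gd = g := AlgHom.ext fun x => by simp [Ψ, gd]
  have e2 : Ψ.comp hd = h := AlgHom.ext fun x => by simp [Ψ, hd]
  have e3 : Φ.comp gd = gu.comp D.val := AlgHom.ext fun x => by simp [Φ, gd, gu]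
  have e4 : Φ.comp hd = hu.comp D.val := AlgHom.ext fun x => by simp [Φ, hd, hu, q]
  have hd0 : Dyn.conv3 (C := D ⊗[k] (D ⧸ J)) k D gd hd (gd.comp (HopfAlgebra.antipodeAlgHom k D)) a = 0 := by
    apply hΦ
    rw [map_zero]
    refine (AlgHom.congr_fun (comp_conv3 (S := D ⊗[k] (D ⧸ J)) Φ gd hd (gd.comp (HopfAlgebra.antipodeAlgHom k D))) a).trans ?_
    rw [e4, ← AlgHom.comp_assoc, e3]
    have hS : (HopfAlgebra.antipodeAlgHom k A).comp D.val = D.val.comp (HopfAlgebra.antipodeAlgHom k D) :=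
      AlgHom.ext fun x => rfl
    rw [AlgHom.comp_assoc gu D.val, ← hS, ← AlgHom.comp_assoc gu]
    refine Eq.trans ?_ hu0
    rw [conv3_eq, conv3_eq]
    have := congrArg (fun φ : WithConv (D →ₐ[k] A ⊗[k] (A ⧸ I)) => φ.ofConv a)
      (show toConv ((toConv gu * toConv hu * toConv (gu.comp (HopfAlgebra.antipodeAlgHom k A))).ofConv.comp (j : D →ₐ[k] A)) =
          toConv (gu.comp D.val) * toConv (hu.comp D.val) *
            toConv ((gu.comp (HopfAlgebra.antipodeAlgHom k A)).comp D.val) by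
        rw [AlgHom.convMul_comp_bialgHom_distrib, toConv_ofConv, AlgHom.convMul_comp_bialgHom_distrib, toConv_ofConv]
        rfl)
    exact this.symm
  have := congrArg Ψ hd0
  rw [map_zero] at this
  have h2 := AlgHom.congr_fun (comp_conv3 (S := D ⊗[k] (D ⧸ J)) Ψ gd hd (gd.comp (HopfAlgebra.antipodeAlgHom k D))) a
  rw [e2, ← AlgHom.comp_assoc, e1, AlgHom.comp_apply, this] at h2
  exact h2.symm

/-- Takeuchi: a normal Hopf ideal is generated by the augmentation ideal of a Hopf subalgebra. -/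
theorem exists_sub (I : Ideal A) [I.IsHopfIdeal k] (hI : SGA3.IsNormalHopfIdeal k A I) :
    ∃ B : Subalgebra k A, SGA3.IsHopfSubalgebra k A B ∧ I = SGA3.augIdealSpan k A B := by
  let S : Set (Subalgebra k A) := {B | SGA3.IsHopfSubalgebra k A B ∧ SGA3.augIdealSpan k A B ≤ I}
  refine ⟨sSup S, ⟨?_, ?_⟩, ?_⟩
  · intro b hb
    let R := (Algebra.TensorProduct.map (sSup S).val (sSup S).val).range
    suffices h : sSup S ≤ R.comap (Bialgebra.comulAlgHom k A) by
      obtain ⟨t, ht⟩ := h hb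
      exact ⟨t, ht⟩
    refine sSup_le fun B hB => fun c hc => ?_
    obtain ⟨t, ht⟩ := hB.1.1 c hc
    show Coalgebra.comul (R := k) c ∈ R
    rw [← ht]
    clear ht
    induction t using TensorProduct.induction_on with
    | zero => simp
    | tmul p q => exact ⟨⟨p.1, le_sSup hB p.2⟩ ⊗ₜ ⟨q.1, le_sSup hB q.2⟩, rfl⟩
    | add p q hp hq => rw [map_add]; exact R.add_mem hp hq
  · intro b hb
    exact (sSup_le fun B hB => fun c hc => (le_sSup hB (hB.1.2 c hc) : _) :
      sSup S ≤ (sSup S).comap (HopfAlgebra.antipodeAlgHom k A)) hb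
  refine le_antisymm ?_ ?_
  · intro a ha
    obtain ⟨D, hDa, hDf, hD⟩ := GrpSchLib.ProPoints.exists_fg_hopf_of_finset (k := k) ({a} : Finset A)
    letI := GrpSchLib.SubHopf.hopf D hD
    haveI : Algebra.FiniteType k D := (Subalgebra.fg_iff_finiteType D).mp hDf
    obtain ⟨hJ, hJn⟩ := comap_normal I hI D hD
    obtain ⟨C, -, hC, hCJ⟩ := exists_fg (I.comap (D.val : D →+* A)) hJn
    have hCA : SGA3.IsHopfSubalgebra k A (C.map D.val) := by
      refine ⟨?_, ?_⟩
      · rintro _ ⟨c, hc, rfl⟩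
        obtain ⟨w, hw⟩ := hC.1 c hc
        let p := (D.val.comp C.val).codRestrict (C.map D.val) fun b => ⟨b.1, b.2, rfl⟩
        refine ⟨TensorProduct.map p.toLinearMap p.toLinearMap w, ?_⟩
        refine Eq.trans ?_ (GrpSchLib.SubHopf.map_comulRes D hD c)
        show _ = Algebra.TensorProduct.map D.val D.val (Coalgebra.comul (R := k) c)
        rw [← hw, ← LinearMap.comp_apply, ← TensorProduct.map_comp]
        generalize w = z
        induction z using TensorProduct.induction_on with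
        | zero => simp
        | tmul x y => rfl
        | add x y hx hy => simp only [map_add, hx, hy]
      · rintro _ ⟨c, hc, rfl⟩
        exact ⟨_, hC.2 c hc, rfl⟩
    have hCS : C.map D.val ∈ S := ⟨hCA, Ideal.span_le.mpr (by
      rintro _ ⟨⟨c, hc, rfl⟩, hε⟩
      have : c ∈ SGA3.augIdealSpan k D C := Ideal.subset_span ⟨hc, hε⟩
      rw [← hCJ] at this
      exact this)⟩
    have ha' : (⟨a, hDa (by simp)⟩ : D) ∈ SGA3.augIdealSpan k D C := by rw [← hCJ]; exact ha
    have := Ideal.mem_map_of_mem (D.val : D →+* A) ha'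
    rw [SGA3.augIdealSpan, Ideal.map_span] at this
    refine Ideal.span_mono ?_ this
    rintro _ ⟨c, ⟨hc, hε⟩, rfl⟩
    exact ⟨le_sSup hCS ⟨c, hc, rfl⟩, hε⟩
  · refine Ideal.span_le.mpr ?_
    rintro a ⟨ha, hε⟩
    let ε' : A →ₐ[k] A ⧸ I := (Algebra.ofId k (A ⧸ I)).comp (Bialgebra.counitAlgHom k A)
    have h : sSup S ≤ AlgHom.equalizer (Ideal.Quotient.mkₐ k I) ε' := sSup_le fun B hB => fun c hc => by
      show Ideal.Quotient.mk I c = algebraMap k (A ⧸ I) (Coalgebra.counit (R := k) c)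
      exact Ideal.Quotient.eq.mpr (hB.2 (sub_counit_mem B hc))
    have := h ha
    refine Ideal.Quotient.eq_zero_iff_mem.mp ?_
    refine this.trans ?_
    show algebraMap k (A ⧸ I) (Coalgebra.counit (R := k) a) = 0
    rw [hε, map_zero]

/-- The ring of functions on the quotient consists of the invariant elements. -/
theorem mem_iff (B : Subalgebra k A) (hB : SGA3.IsHopfSubalgebra k A B) (J : Ideal A)
    (hJ : J = SGA3.augIdealSpan k A B) (a : A) :
    a ∈ B ↔ Coalgebra.comul (R := k) a - a ⊗ₜ[k] (1 : A) ∈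
        LinearMap.range (LinearMap.lTensor A (J.restrictScalars k).subtype) := by
  constructor
  · intro ha
    obtain ⟨t, ht⟩ := hB.1 a ha
    have hL : a ⊗ₜ[k] (1 : A) = LinearMap.lTensor A ((Algebra.linearMap k A) ∘ₗ Coalgebra.counit) (Coalgebra.comul (R := k) a) := by
      rw [LinearMap.lTensor_comp_apply, Coalgebra.lTensor_counit_comul, LinearMap.lTensor_tmul]
      simp
    rw [hL]
    clear hL
    rw [← ht]
    clear ht
    induction t using TensorProduct.induction_on with
    | zero => simp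
    | tmul p q =>
      refine ⟨(p : A) ⊗ₜ[k] ⟨_, hJ ▸ sub_counit_mem B q.2⟩, ?_⟩
      simp [TensorProduct.tmul_sub]
    | add p q hp hq => rw [map_add, map_add, add_sub_add_comm]; exact Submodule.add_mem _ hp hq
  intro h
  haveI : Module.FaithfullyFlat B A := S4103.result k A B hB
  let L : A →ₐ[k] A ⊗[B] A := (Algebra.TensorProduct.includeLeft : A →ₐ[B] A ⊗[B] A).restrictScalars k
  let R : A →ₐ[k] A ⊗[B] A := (Algebra.TensorProduct.includeRight : A →ₐ[B] A ⊗[B] A).restrictScalars k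
  letI := GrpSchLib.SubHopf.hopf B hB
  let j : B →ₐc[k] A := BialgHom.ofAlgHom B.val rfl (AlgHom.ext fun c => GrpSchLib.SubHopf.map_comulRes B hB c)
  let Θ : A →ₐ[k] A ⊗[B] A :=
    (toConv (L.comp (HopfAlgebra.antipodeAlgHom k A)) * toConv R).ofConv
  have hLR : L.comp (j : B →ₐ[k] A) = R.comp (j : B →ₐ[k] A) :=
    AlgHom.ext fun c => (Algebra.TensorProduct.includeLeft : A →ₐ[B] A ⊗[B] A).commutes c |>.trans
      ((Algebra.TensorProduct.includeRight : A →ₐ[B] A ⊗[B] A).commutes c).symm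
  have hΘ : Θ.comp (j : B →ₐ[k] A) = (1 : WithConv (B →ₐ[k] A ⊗[B] A)).ofConv := by
    show AlgHom.comp _ (j : B →ₐ[k] A) = _
    rw [AlgHom.convMul_comp_bialgHom_distrib]
    simp only [WithConv.ofConv_toConv, AlgHom.comp_assoc]
    rw [show (HopfAlgebra.antipodeAlgHom k A).comp (j : B →ₐ[k] A) =
        (j : B →ₐ[k] A).comp (HopfAlgebra.antipodeAlgHom k B) from AlgHom.ext fun c =>
          GrpSchLib.HopfGalois.antipode_bialgHom j c, ← AlgHom.comp_assoc, hLR,
      GrpSchLib.HopfQuot.inv_convMul_self]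
  have hJ0 : ∀ z ∈ J, Θ z = 0 := by
    intro z hz
    rw [hJ] at hz
    refine (Ideal.span_le.mpr (fun c hc => ?_) : _ ≤ RingHom.ker Θ.toRingHom) hz
    show Θ ((⟨c, hc.1⟩ : B) : A) = 0
    refine (AlgHom.congr_fun hΘ ⟨c, hc.1⟩).trans ?_
    show algebraMap k (A ⊗[B] A) (Coalgebra.counit (R := k) c) = 0
    rw [hc.2, map_zero]
  let m : A ⊗[k] A →ₐ[k] A ⊗[B] A := Algebra.TensorProduct.lift L Θ fun _ _ => Commute.all _ _
  have h1 : (toConv L * toConv Θ).ofConv = R := by
    show (toConv L * (toConv (L.comp (HopfAlgebra.antipodeAlgHom k A)) * toConv R)).ofConv = R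
    have e := mul_assoc (G := WithConv (A →ₐ[k] A ⊗[B] A)) (toConv L) (toConv (L.comp (HopfAlgebra.antipodeAlgHom k A))) (toConv R)
    refine congrArg WithConv.ofConv (e.symm.trans ?_)
    rw [GrpSchLib.HopfQuot.self_convMul_inv]
    exact one_mul (toConv R)
  have hm : m (Coalgebra.comul (R := k) a) = R a := by
    refine Eq.trans ?_ (AlgHom.congr_fun h1 a)
    rw [GrpSchLib.HopfQuot.convMul_apply]
    induction Coalgebra.comul (R := k) a using TensorProduct.induction_on with
    | zero => simp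
    | tmul p q => simp [m]
    | add p q hp hq => simp only [map_add, hp, hq]
  have heq : a ⊗ₜ[B] (1 : A) = (1 : A) ⊗ₜ[B] a := by
    obtain ⟨z, hz⟩ := h
    have h0 : m (Coalgebra.comul (R := k) a - a ⊗ₜ[k] (1 : A)) = 0 := by
      rw [← hz]
      clear hz
      induction z using TensorProduct.induction_on with
      | zero => simp
      | tmul p q => simp [m, hJ0 q.1 q.2]
      | add p q hp hq => simp only [map_add, hp, hq, add_zero]
    rw [map_sub, sub_eq_zero, hm] at h0
    simpa [m, L, R] using h0.symm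
  obtain ⟨c, hc⟩ := DescLib.mem_range_of_one_tmul_mem (A := A) (Algebra.linearMap B A) a
    ⟨a ⊗ₜ[B] (1 : B), by rw [LinearMap.lTensor_tmul, Algebra.linearMap_apply, map_one]; exact heq⟩
  exact hc ▸ c.2

end Groth.Agent.TakeuchiLib
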