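import Groth.Agent.TakeuchiLib.Special
import Groth.Agent.ComodLib.Rosenlicht
import Groth.Agent.QRepLib.Naive
import Groth.Prelude.Def_SGA3b
import Mathlib.RingTheory.Norm.Basic
import Mathlib.FieldTheory.IsAlgClosed.AlgebraicClosure

/-!
# Base change of unipotent and trigonalizable groups; units of unipotent groups
-/

universe u v

set_option autoImplicit false
set_option backward.isDefEq.respectTransparency false
set_option backward.isDefEq.respectTransparency.types false

open TensorProduct

namespace Groth.Agent.TakeuchiLib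

open ComodLib (slice slice_tmul actF actF_apply)

section BaseChange

variable {k : Type u} [Field k] (K : Type u) [Field K] [Algebra k K] {A : Type u} [CommRing A] [HopfAlgebra k A]

/-- The span of a subspace after base change. -/
noncomputable def ext (P : Submodule k A) : Submodule K (K ⊗[k] A) :=
  Submodule.span K ((fun a => (1 : K) ⊗ₜ[k] a) '' (P : Set A))

variable {K}

theorem one_tmul_mem_ext {P : Submodule k A} {a : A} (ha : a ∈ P) : (1 : K) ⊗ₜ[k] a ∈ ext K P :=
  Submodule.subset_span ⟨a, ha, rfl⟩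

theorem ext_bot : ext K (⊥ : Submodule k A) = ⊥ := by
  rw [ext, Submodule.span_eq_bot]
  rintro _ ⟨a, ha, rfl⟩
  rw [show a = 0 from (Submodule.mem_bot k).mp ha]
  exact TensorProduct.tmul_zero _ _

theorem slice_ext_mem {P : Submodule k A} (z : A ⊗[k] A) (hz : z ∈ LinearMap.range (P.subtype.rTensor A))
    (φ : (K ⊗[k] A) →ₗ[K] K) :
    slice φ (AlgebraTensorModule.distribBaseChange k K A A ((1 : K) ⊗ₜ[k] z)) ∈ ext K P := by
  obtain ⟨y, rfl⟩ := hz
  induction y using TensorProduct.induction_on with
  | zero => simp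
  | tmul p q =>
    rw [LinearMap.rTensor_tmul, Submodule.subtype_apply, show AlgebraTensorModule.distribBaseChange k K A A ((1 : K) ⊗ₜ[k] ((p : A) ⊗ₜ[k] q)) =
      ((1 : K) ⊗ₜ[k] (p : A)) ⊗ₜ[K] ((1 : K) ⊗ₜ[k] q) by simp [AlgebraTensorModule.distribBaseChange]]
    rw [slice_tmul]
    exact Submodule.smul_mem _ _ (one_tmul_mem_ext p.2)
  | add p q hp hq => simp only [TensorProduct.tmul_add, map_add]; exact Submodule.add_mem _ hp hq

theorem exists_finite_subcomod_ext (s : Finset (K ⊗[k] A)) :
    ∃ U : Submodule k A, Module.Finite k U ∧ HopfRep.IsSubcomod (k := k) (A := A) U ∧ ∀ x ∈ s, x ∈ ext K U := by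
  classical
  have h1 : ∀ x : K ⊗[k] A, ∃ t : Finset A, x ∈ ext K (Submodule.span k (t : Set A)) := fun x => by
    induction x using TensorProduct.induction_on with
    | zero => exact ⟨∅, Submodule.zero_mem _⟩
    | tmul r a =>
      refine ⟨{a}, ?_⟩
      rw [show r ⊗ₜ[k] a = r • ((1 : K) ⊗ₜ[k] a) by rw [TensorProduct.smul_tmul', smul_eq_mul, mul_one]]
      exact Submodule.smul_mem _ _ (one_tmul_mem_ext (Submodule.subset_span (by simp)))
    | add p q hp hq =>
      obtain ⟨t, ht⟩ := hp
      obtain ⟨t', ht'⟩ := hq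
      refine ⟨t ∪ t', Submodule.add_mem _ (Submodule.span_mono ?_ ht) (Submodule.span_mono ?_ ht')⟩
      · exact Set.image_mono (SetLike.coe_subset_coe.mpr (Submodule.span_mono (by simp)))
      · exact Set.image_mono (SetLike.coe_subset_coe.mpr (Submodule.span_mono (by simp)))
  choose t ht using h1
  obtain ⟨U, hUf, htU, hU⟩ := ComodLib.exists_finite_subcomod_le (k := k) (C := A) (V := A) (s.biUnion t).finite_toSet
  refine ⟨U, hUf, hU, fun x hx => Submodule.span_mono ?_ (ht x)⟩
  exact Set.image_mono (SetLike.coe_subset_coe.mpr (Submodule.span_le.mpr fun a ha =>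
    htU (Finset.mem_coe.mpr (Finset.mem_biUnion.mpr ⟨x, hx, ha⟩))))

variable (K)

theorem isUnipotent_baseChange (hA : HopfRep.IsUnipotent k A) : HopfRep.IsUnipotent K (K ⊗[k] A) := by
  refine isUnipotent_of_exhaust fun s => ?_
  obtain ⟨U, hUf, hU, hsU⟩ := exists_finite_subcomod_ext s
  let cU : HopfRep.Comod k A U := ComodSub.Comod.restr (HopfRep.Comod.regular k A) U hU
  letI := cU
  obtain ⟨m, F, -, h0, hm, -, hstep⟩ := ComodLib.isUnipotent_iff_filtration.mp hA U hUf
  refine ⟨m, fun i => ext K ((F i).map U.subtype), ?_, fun x hx => ?_, ?_⟩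
  · show ext K ((F 0).map U.subtype) = ⊥
    rw [h0, Submodule.map_bot, ext_bot]
  · show x ∈ ext K ((F m).map U.subtype)
    rw [hm, Submodule.map_subtype_top]
    exact hsU x hx
  intro i b hb φ
  induction hb using Submodule.span_induction with
  | zero => simp
  | add p q _ _ hp hq =>
    rw [map_add, map_add, smul_add, add_sub_add_comm]
    exact Submodule.add_mem _ hp hq
  | smul c p _ hp =>
    rw [map_smul, map_smul, smul_comm, ← smul_sub]
    exact Submodule.smul_mem _ _ hp
  | mem b hb =>
    obtain ⟨_, ⟨y, hy, rfl⟩, rfl⟩ := hb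
    have key := slice_ext_mem (K := K) (P := (F i).map U.subtype)
      (Coalgebra.comul (R := k) (y : A) - (y : A) ⊗ₜ[k] (1 : A)) ?_ φ
    · rw [TensorProduct.tmul_sub, map_sub, map_sub, ← comul_one_tmul',
        show AlgebraTensorModule.distribBaseChange k K A A ((1 : K) ⊗ₜ[k] ((y : A) ⊗ₜ[k] (1 : A))) =
          ((1 : K) ⊗ₜ[k] (y : A)) ⊗ₜ[K] (1 : K ⊗[k] A) by
            simp [AlgebraTensorModule.distribBaseChange, Algebra.TensorProduct.one_def], slice_tmul] at key
      exact key
    obtain ⟨z, hz⟩ := hstep i y hy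
    let e : F i →ₗ[k] (F i).map U.subtype :=
      (U.subtype ∘ₗ (F i).subtype).codRestrict _ fun x => ⟨x, x.2, rfl⟩
    refine ⟨e.rTensor A z, ?_⟩
    rw [← LinearMap.rTensor_comp_apply, show ((F i).map U.subtype).subtype ∘ₗ e = U.subtype ∘ₗ (F i).subtype from rfl,
      LinearMap.rTensor_comp_apply, hz, map_sub, ComodSub.restr_coact_coe _ U hU y, LinearMap.rTensor_tmul]
    rfl

theorem isTrigonalizable_baseChange (hA : HopfRep.IsTrigonalizable k A) :
    HopfRep.IsTrigonalizable K (K ⊗[k] A) := by
  refine isTrigonalizable_of_exhaust fun s => ?_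
  obtain ⟨U, hUf, hU, hsU⟩ := exists_finite_subcomod_ext s
  let cU : HopfRep.Comod k A U := ComodSub.Comod.restr (HopfRep.Comod.regular k A) U hU
  letI := cU
  obtain ⟨F, hmono, hsub, htop, hrank⟩ := ComodLib.exists_flag hA U
  have hF0 : F 0 = ⊥ := Submodule.finrank_eq_zero.mp (hrank 0 (Nat.zero_le _))
  refine ⟨Module.finrank k U, fun i => ext K ((F i).map U.subtype), ?_, fun x hx => ?_, ?_, ?_⟩
  · show ext K ((F 0).map U.subtype) = ⊥
    rw [hF0, Submodule.map_bot, ext_bot]
  · show x ∈ ext K ((F _).map U.subtype)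
    rw [htop, Submodule.map_subtype_top]
    exact hsU x hx
  · intro i b hb φ
    induction hb using Submodule.span_induction with
    | zero => simp
    | add p q _ _ hp hq => rw [map_add, map_add]; exact Submodule.add_mem _ hp hq
    | smul c p _ hp => rw [map_smul, map_smul]; exact Submodule.smul_mem _ _ hp
    | mem b hb =>
      obtain ⟨_, ⟨y, hy, rfl⟩, rfl⟩ := hb
      rw [comul_one_tmul']
      refine slice_ext_mem _ ?_ φ
      obtain ⟨z, hz⟩ := hsub i y hy
      let e : F i →ₗ[k] (F i).map U.subtype :=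
        (U.subtype ∘ₗ (F i).subtype).codRestrict _ fun x => ⟨x, x.2, rfl⟩
      refine ⟨e.rTensor A z, ?_⟩
      rw [← LinearMap.rTensor_comp_apply, show ((F i).map U.subtype).subtype ∘ₗ e = U.subtype ∘ₗ (F i).subtype from rfl,
        LinearMap.rTensor_comp_apply, hz, ComodSub.restr_coact_coe _ U hU y]
      rfl
  intro i a ha hai b hb
  by_cases hi : Module.finrank k U ≤ i
  · refine absurd ?_ hai
    refine Submodule.span_mono (Set.image_mono (SetLike.coe_subset_coe.mpr (Submodule.map_mono ?_))) ha
    exact le_top.trans (htop.ge.trans (hmono hi))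
  push Not at hi
  obtain ⟨x, hx, hxn⟩ : ∃ x, x ∈ F (i + 1) ∧ x ∉ F i :=
    SetLike.exists_of_lt (lt_of_le_of_ne (hmono (Nat.le_succ i)) fun h => by
      have h1 := hrank i (le_of_lt hi)
      have h2 := hrank (i + 1) hi
      rw [← h] at h2
      omega)
  have hsup : F i ⊔ Submodule.span k {x} = F (i + 1) := by
    refine Submodule.eq_of_le_of_finrank_le
      (sup_le (hmono (Nat.le_succ i)) ((Submodule.span_singleton_le_iff_mem _ _).mpr hx)) ?_
    have hlt : F i < F i ⊔ Submodule.span k {x} := lt_of_le_of_ne le_sup_left fun h =>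
      hxn (h ▸ Submodule.mem_sup_right (Submodule.mem_span_singleton_self x))
    have h3 := Submodule.finrank_lt_finrank_of_lt hlt
    rw [hrank (i + 1) hi]
    rw [hrank i (le_of_lt hi)] at h3
    omega
  have hline : ∀ c ∈ ext K ((F (i + 1)).map U.subtype), ∃ t : K, c - t • ((1 : K) ⊗ₜ[k] (x : A)) ∈ ext K ((F i).map U.subtype) := by
    intro c hc
    induction hc using Submodule.span_induction with
    | zero => exact ⟨0, by simp⟩
    | add p q _ _ hp hq =>
      obtain ⟨t, ht⟩ := hp
      obtain ⟨t', ht'⟩ := hq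
      exact ⟨t + t', by rw [add_smul, add_sub_add_comm]; exact Submodule.add_mem _ ht ht'⟩
    | smul r p _ hp =>
      obtain ⟨t, ht⟩ := hp
      exact ⟨r * t, by rw [mul_smul, ← smul_sub]; exact Submodule.smul_mem _ _ ht⟩
    | mem c hc =>
      obtain ⟨_, ⟨y, hy, rfl⟩, rfl⟩ := hc
      obtain ⟨p, hp, q, hq, hpq⟩ := Submodule.mem_sup.mp (hsup.ge hy)
      obtain ⟨t, rfl⟩ := Submodule.mem_span_singleton.mp hq
      refine ⟨algebraMap k K t, ?_⟩
      rw [algebraMap_smul, ← TensorProduct.tmul_smul, ← TensorProduct.tmul_sub, ← hpq, Submodule.subtype_apply,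
        Submodule.coe_add, Submodule.coe_smul, add_sub_cancel_right]
      exact one_tmul_mem_ext ⟨p, hp, rfl⟩
  obtain ⟨s', hs'⟩ := hline a ha
  obtain ⟨t, ht⟩ := hline b hb
  have hs0 : s' ≠ 0 := fun h => hai (by rwa [h, zero_smul, sub_zero] at hs')
  refine ⟨t / s', ?_⟩
  have := Submodule.sub_mem _ ht (Submodule.smul_mem _ (t / s') hs')
  rwa [smul_sub, smul_smul, div_mul_cancel₀ _ hs0, sub_sub_sub_cancel_right] at this

theorem isUnipotent_of_baseChange (hK : HopfRep.IsUnipotent K (K ⊗[k] A)) : HopfRep.IsUnipotent k A := by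
  classical
  refine isUnipotent_of_exhaust fun s => ?_
  let ι : A →ₗ[k] K ⊗[k] A := TensorProduct.mk k K A 1
  have hι : Function.Injective ι :=
    Algebra.TensorProduct.includeRight_injective (R := k) (A := K) (algebraMap k K).injective
  obtain ⟨U, hUf, hsU, hU⟩ := ComodLib.exists_finite_subcomod_le (k := K) (C := K ⊗[k] A) (V := K ⊗[k] A)
    (s.finite_toSet.image ι)
  let cU : HopfRep.Comod K (K ⊗[k] A) U := ComodSub.Comod.restr (HopfRep.Comod.regular K (K ⊗[k] A)) U hU
  letI := cU
  obtain ⟨m, F, -, h0, hm, -, hstep⟩ := ComodLib.isUnipotent_iff_filtration.mp hK U hUf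
  refine ⟨m, fun i => (((F i).map U.subtype).restrictScalars k).comap ι, ?_, fun x hx => ?_, ?_⟩
  · show (((F 0).map U.subtype).restrictScalars k).comap ι = ⊥
    rw [h0, Submodule.map_bot, Submodule.restrictScalars_bot, Submodule.comap_bot, LinearMap.ker_eq_bot]
    exact hι
  · show ι x ∈ (F m).map U.subtype
    rw [hm, Submodule.map_subtype_top]
    exact hsU ⟨x, hx, rfl⟩
  intro i b hb φ
  obtain ⟨y, hy, hyb⟩ := Submodule.mem_comap.mp hb
  let φK : (K ⊗[k] A) →ₗ[K] K := (TensorProduct.AlgebraTensorModule.rid k K K).toLinearMap ∘ₗ φ.baseChange K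
  have hφK : ∀ a : A, φK ((1 : K) ⊗ₜ[k] a) = algebraMap k K (φ a) := fun a => by
    simp [φK, Algebra.algebraMap_eq_smul_one]
  have hs : ι (slice φ (Coalgebra.comul (R := k) b) - φ 1 • b) =
      slice φK (Coalgebra.comul (R := K) (ι b) - ι b ⊗ₜ[K] (1 : K ⊗[k] A)) := by
    rw [map_sub, map_sub, slice_tmul, Algebra.TensorProduct.one_def, hφK, map_smul, algebraMap_smul]
    congr 1
    show _ = slice φK (Coalgebra.comul (R := K) ((1 : K) ⊗ₜ[k] b))
    rw [comul_one_tmul']
    induction Coalgebra.comul (R := k) b using TensorProduct.induction_on with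
    | zero => simp
    | tmul p q => simp [AlgebraTensorModule.distribBaseChange, ι, hφK]
    | add p q hp hq => simp only [TensorProduct.tmul_add, map_add, hp, hq]
  show ι _ ∈ (F i).map U.subtype
  rw [hs]
  refine (ComodLib.mem_range_rTensor_subtype_iff _ _).mp ?_ φK
  obtain ⟨z, hz⟩ := hstep i y hy
  let e : F i →ₗ[K] (F i).map U.subtype :=
    (U.subtype ∘ₗ (F i).subtype).codRestrict _ fun x => ⟨x, x.2, rfl⟩
  refine ⟨e.rTensor (K ⊗[k] A) z, ?_⟩
  rw [← LinearMap.rTensor_comp_apply, show ((F i).map U.subtype).subtype ∘ₗ e = U.subtype ∘ₗ (F i).subtype from rfl,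
    LinearMap.rTensor_comp_apply, hz, map_sub, ComodSub.restr_coact_coe _ U hU y, LinearMap.rTensor_tmul, hyb]
  exact congrArg (· - _) (congrArg (Coalgebra.comul (R := K)) hyb)

end BaseChange

section Connected

variable {k : Type u} [Field k] {C : Type u} [CommRing C] [Algebra k C]

/-- Over a finite extension a connected algebra with a rational point has no new idempotents. -/
theorem idem_eq_one_finite (F : Type u) [Field F] [Algebra k F] [FiniteDimensional k F]
    (hconn : ∀ e : C, IsIdempotentElem e → e = 0 ∨ e = 1) (ε : C →ₐ[k] k) (E : C ⊗[k] F) (hE : IsIdempotentElem E)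
    (h1 : Algebra.TensorProduct.map ε (AlgHom.id k F) E = 1) : E = 1 := by
  classical
  haveI : Nontrivial C := ε.toRingHom.domain_nontrivial
  let b := Module.finBasis k F
  let bC := Algebra.TensorProduct.basis C b
  have hM : (ε : C →+* k).mapMatrix (Algebra.leftMulMatrix bC E) = 1 := by
    ext i j
    rw [RingHom.mapMatrix_apply, Matrix.map_apply, Algebra.leftMulMatrix_eq_repr_mul, Algebra.TensorProduct.basis_apply]
    have key : ∀ z : C ⊗[k] F, ε (bC.repr z i) =
        b.repr (TensorProduct.lid k F (Algebra.TensorProduct.map ε (AlgHom.id k F) z)) i := fun z => by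
      induction z using TensorProduct.induction_on with
      | zero => simp
      | tmul c f => simp [bC, mul_comm]
      | add p q hp hq => simp only [map_add, Finsupp.add_apply, hp, hq]
    refine (key _).trans ?_
    rw [map_mul, h1, one_mul, Algebra.TensorProduct.map_tmul, map_one, TensorProduct.lid_tmul, one_smul,
      AlgHom.id_apply, b.repr_self, Matrix.one_apply, Finsupp.single_apply]
    simp only [eq_comm]
  have hN : ε (Algebra.norm C E) = 1 := by
    rw [Algebra.norm_eq_matrix_det bC]
    show (ε : C →+* k) _ = 1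
    rw [RingHom.map_det, hM, Matrix.det_one]
  haveI : Module.Free C (C ⊗[k] F) := Module.Free.of_basis bC
  haveI : Module.Finite C (C ⊗[k] F) := Module.Finite.of_basis bC
  rcases hconn (Algebra.norm C E) (hE.map (Algebra.norm C)) with h | h
  · rw [h, map_zero] at hN
    exact absurd hN zero_ne_one
  · have hu : IsUnit (Algebra.leftMulMatrix bC E) := (Matrix.isUnit_iff_isUnit_det _).mpr (by
      rw [← Algebra.norm_eq_matrix_det, h]
      exact isUnit_one)
    have hM1 : Algebra.leftMulMatrix bC E = 1 :=
      (IsIdempotentElem.iff_eq_one_of_isUnit hu).mp (hE.map (Algebra.leftMulMatrix bC))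
    exact Algebra.leftMulMatrix_injective bC (hM1.trans (map_one _).symm)

/-- A connected algebra with a rational point is connected over the algebraic closure. -/
theorem no_idem_baseChange (L : Type u) [Field L] [Algebra k L] [Algebra.IsAlgebraic k L]
    (hconn : ∀ e : C, IsIdempotentElem e → e = 0 ∨ e = 1) (ε : C →ₐ[k] k) :
    ∀ e : C ⊗[k] L, IsIdempotentElem e → e = 0 ∨ e = 1 := by
  classical
  have main : ∀ e : C ⊗[k] L, IsIdempotentElem e → Algebra.TensorProduct.map ε (AlgHom.id k L) e = 1 → e = 1 := by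
    intro e he h1
    obtain ⟨n, c, l, rfl⟩ := TensorProduct.exists_sum_tmul_eq e
    let F := IntermediateField.adjoin k (Set.range l)
    haveI : FiniteDimensional k F :=
      IntermediateField.finiteDimensional_adjoin fun x _ => Algebra.IsIntegral.isIntegral x
    let j : C ⊗[k] F →ₐ[k] C ⊗[k] L := Algebra.TensorProduct.map (AlgHom.id k C) F.val
    have hj : Function.Injective j :=
      Module.Flat.lTensor_preserves_injective_linearMap (M := C) F.val.toLinearMap F.val.toRingHom.injective
    let E : C ⊗[k] F := ∑ i, c i ⊗ₜ[k] ⟨l i, IntermediateField.subset_adjoin _ _ ⟨i, rfl⟩⟩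
    have hjE : j E = ∑ i, c i ⊗ₜ[k] l i := by simp [j, E, map_sum]
    have hE : IsIdempotentElem E := hj (by rw [map_mul, hjE]; exact he)
    have hE1 : Algebra.TensorProduct.map ε (AlgHom.id k F) E = 1 := by
      refine Module.Flat.lTensor_preserves_injective_linearMap (M := k) F.val.toLinearMap F.val.toRingHom.injective ?_
      show Algebra.TensorProduct.map (AlgHom.id k k) F.val _ = Algebra.TensorProduct.map (AlgHom.id k k) F.val 1
      rw [map_one, ← h1, ← hjE, ← AlgHom.comp_apply, ← AlgHom.comp_apply, ← Algebra.TensorProduct.map_comp,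
        ← Algebra.TensorProduct.map_comp]
      rfl
    rw [← hjE, idem_eq_one_finite F hconn ε E hE hE1]
    exact j.toRingHom.map_one
  intro e he
  have hid : IsIdempotentElem (Algebra.TensorProduct.lid k L (Algebra.TensorProduct.map ε (AlgHom.id k L) e)) :=
    (he.map (Algebra.TensorProduct.map ε (AlgHom.id k L))).map _
  rcases IsIdempotentElem.iff_eq_zero_or_one.mp hid with h | h
  · left
    have h2 := main (1 - e) he.one_sub (by
      rw [map_sub, map_one, show Algebra.TensorProduct.map ε (AlgHom.id k L) e = 0 from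
        (Algebra.TensorProduct.lid k L).injective (h.trans (map_zero _).symm), sub_zero])
    exact sub_eq_self.mp h2
  · exact Or.inr (main e he ((Algebra.TensorProduct.lid k L).injective (h.trans (map_one _).symm)))

end Connected

section Units

variable {K : Type u} [Field K] [IsAlgClosed K] {D : Type u} [CommRing D] [HopfAlgebra K D] [Algebra.FiniteType K D]

/-- Units of a connected reduced unipotent group are constants. -/
theorem unit_eq_algebraMap [_root_.IsReduced D] (hconn : ∀ e : D, IsIdempotentElem e → e = 0 ∨ e = 1)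
    (hU : HopfRep.IsUnipotent K D) (u : Dˣ) : (u : D) = algebraMap K D (Coalgebra.counit (R := K) (u : D)) := by
  haveI : IsDomain D := ComodLib.isDomain_of_connected (k := K) hconn
  haveI : GLin.IsCoactAlg K D D := ⟨Bialgebra.comul_one, fun f g => Bialgebra.comul_mul f g⟩
  obtain ⟨χ, hχ, hco⟩ := ComodLib.exists_character (k := K) (A := D) (B := D) (a := (u : D)) u.ne_zero fun g => by
    have hg : IsUnit (HopfRep.Comod.act K D D g (u : D)) := by
      have : HopfRep.Comod.act K D D g (u : D) = ((Algebra.TensorProduct.rid K K D).toAlgHom.comp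
          ((Algebra.TensorProduct.map (AlgHom.id K D) g).comp (Bialgebra.comulAlgHom K D))) (u : D) := rfl
      rw [this]
      exact u.isUnit.map _
    exact ⟨hg.unit * u⁻¹, by rw [Units.val_mul, Units.inv_mul_cancel_right, IsUnit.unit_spec]⟩
  have hχ1 : χ = 1 := by
    let S : Submodule K D := Submodule.span K {χ}
    have hS : HopfRep.IsSubcomod (k := K) (A := D) S := by
      intro y hy
      obtain ⟨t, rfl⟩ := Submodule.mem_span_singleton.mp hy
      refine ⟨(⟨_, Submodule.smul_mem _ t (Submodule.mem_span_singleton_self _)⟩ : S) ⊗ₜ[K] χ, ?_⟩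
      show _ = Coalgebra.comul (R := K) (t • χ)
      rw [map_smul, hχ.comul_eq_tmul_self, LinearMap.rTensor_tmul, TensorProduct.smul_tmul']
      rfl
    let cS : HopfRep.Comod K D S := ComodSub.Comod.restr (HopfRep.Comod.regular K D) S hS
    letI := cS
    haveI : Nontrivial S := Submodule.nontrivial_iff_ne_bot.mpr fun h => hχ.ne_zero (Submodule.span_singleton_eq_bot.mp h)
    obtain ⟨w, hw, hw0⟩ := Submodule.exists_mem_ne_zero_of_ne_bot (hU S inferInstance inferInstance)
    obtain ⟨t, ht⟩ := Submodule.mem_span_singleton.mp w.2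
    have h := congrArg (S.subtype.rTensor D) (show cS.coact w = w ⊗ₜ[K] (1 : D) from hw)
    rw [ComodSub.restr_coact_coe _ S hS w, LinearMap.rTensor_tmul, Submodule.subtype_apply, ← ht] at h
    change Coalgebra.comul (R := K) (t • χ) = _ at h
    have h2 := congrArg (fun z => TensorProduct.lid K D (LinearMap.rTensor D (Coalgebra.counit (R := K)) z)) h
    simp only [Coalgebra.rTensor_counit_comul, LinearMap.rTensor_tmul, TensorProduct.lid_tmul, map_smul,
      hχ.counit_eq_one, smul_eq_mul, mul_one, one_smul] at h2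
    have ht0 : t ≠ 0 := fun h' => hw0 (Subtype.ext (by rw [← ht, h', zero_smul]; rfl))
    have h3 : t • χ = t • (1 : D) := by simpa using h2
    exact smul_right_injective D ht0 h3
  have h := congrArg (fun z => TensorProduct.lid K D (LinearMap.rTensor D (Coalgebra.counit (R := K)) z)) hco
  change TensorProduct.lid K D (LinearMap.rTensor D (Coalgebra.counit (R := K)) (Coalgebra.comul (R := K) (u : D))) = _ at h
  rw [Coalgebra.rTensor_counit_comul, hχ1] at h
  simpa [Algebra.algebraMap_eq_smul_one] using h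

end Units

end Groth.Agent.TakeuchiLib
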