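import Groth.Agent.TakeuchiLib.Unip
import Groth.Agent.GrpSchLib.HopfTransfer

/-!
# Kernels of maps of Hopf algebras and unipotence
-/

universe u v

set_option autoImplicit false
set_option backward.isDefEq.respectTransparency false
set_option backward.isDefEq.respectTransparency.types false

open TensorProduct WithConv

namespace Groth.Agent.TakeuchiLib

open ComodLib (slice slice_tmul actF actF_apply)

variable {k : Type u} [Field k]

/-- The ideal of the kernel of a map of Hopf algebras is a Hopf ideal. -/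
theorem isHopfIdeal_map {A C : Type v} [CommRing A] [CommRing C] [HopfAlgebra k A] [HopfAlgebra k C] (ψ : C →ₐc[k] A) :
    (Ideal.map (ψ : C →+* A) (RingHom.ker (Bialgebra.counitAlgHom k C))).IsHopfIdeal k := by
  set J := Ideal.map (ψ : C →+* A) (RingHom.ker (Bialgebra.counitAlgHom k C)) with hJdef
  have hmk : ∀ c : C, Ideal.Quotient.mkₐ k J (ψ c) = algebraMap k (A ⧸ J) (Coalgebra.counit (R := k) c) := fun c => by
    refine Ideal.Quotient.eq.mpr ?_
    have h : ψ c - algebraMap k A (Coalgebra.counit (R := k) c) = ψ (c - algebraMap k C (Coalgebra.counit (R := k) c)) :=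
      ((map_sub (ψ : C →ₐ[k] A) _ _).trans (congrArg (ψ c - ·) ((ψ : C →ₐ[k] A).commutes _))).symm
    rw [h]
    refine Ideal.mem_map_of_mem (ψ : C →+* A) ?_
    show Coalgebra.counit (R := k) (c - algebraMap k C (Coalgebra.counit (R := k) c)) = 0
    rw [map_sub, Bialgebra.counit_algebraMap, sub_self]
  let P : A →ₐ[k] (A ⧸ J) ⊗[k] (A ⧸ J) :=
    (Algebra.TensorProduct.map (Ideal.Quotient.mkₐ k J) (Ideal.Quotient.mkₐ k J)).comp (Bialgebra.comulAlgHom k A)
  have h1 : J ≤ RingHom.ker (Bialgebra.counitAlgHom k A) ⊓ RingHom.ker P ⊓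
      RingHom.ker ((Ideal.Quotient.mkₐ k J).comp (HopfAlgebra.antipodeAlgHom k A)) := by
    refine Ideal.map_le_iff_le_comap.mpr fun c hc => ⟨⟨?_, ?_⟩, ?_⟩
    · show Coalgebra.counit (R := k) (ψ c) = 0
      rw [CoalgHomClass.counit_comp_apply]
      exact hc
    · show Algebra.TensorProduct.map _ _ (Coalgebra.comul (R := k) (ψ c)) = 0
      rw [← CoalgHomClass.map_comp_comul_apply ψ c]
      have e : ∀ z : C ⊗[k] C, Algebra.TensorProduct.map (Ideal.Quotient.mkₐ k J) (Ideal.Quotient.mkₐ k J)
          (TensorProduct.map (ψ : C →ₗ[k] A) (ψ : C →ₗ[k] A) z) =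
          algebraMap k _ (LinearMap.mul' k k (TensorProduct.map (Coalgebra.counit (R := k)) (Coalgebra.counit (R := k)) z)) := fun z => by
        induction z using TensorProduct.induction_on with
        | zero => simp
        | tmul p q =>
          simp only [TensorProduct.map_tmul, Algebra.TensorProduct.map_tmul, LinearMap.mul'_apply, map_mul]
          erw [hmk, hmk]
          rw [← map_mul, Algebra.algebraMap_eq_smul_one, Algebra.algebraMap_eq_smul_one, TensorProduct.smul_tmul_smul,
            Algebra.algebraMap_eq_smul_one, Algebra.TensorProduct.one_def]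
        | add p q hp hq => simp only [map_add, hp, hq]
      refine (e _).trans ?_
      have h2 : LinearMap.mul' k k (TensorProduct.map (Coalgebra.counit (R := k)) (Coalgebra.counit (R := k))
          (Coalgebra.comul (R := k) c)) = Coalgebra.counit (R := k) c := by
        rw [← LinearMap.rTensor_comp_lTensor, LinearMap.comp_apply, Coalgebra.lTensor_counit_comul]
        simp
      rw [h2, show Coalgebra.counit (R := k) c = 0 from hc, map_zero]
    · show Ideal.Quotient.mk J (HopfAlgebra.antipode k (ψ c)) = 0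
      rw [GrpSchLib.HopfGalois.antipode_bialgHom]
      refine (hmk _).trans ?_
      rw [HopfAlgebra.counit_antipode, show Coalgebra.counit (R := k) c = 0 from hc, map_zero]
  refine @Ideal.IsHopfIdeal.mk _ _ _ _ _ J ⟨fun z hz => (h1 hz).1.1, fun z hz => ?_⟩
    fun z hz => Ideal.Quotient.eq_zero_iff_mem.mp (h1 hz).2
  let ι := (J.restrictScalars k).liftQ (Ideal.Quotient.mkₐ k J).toLinearMap
    (fun a ha => Ideal.Quotient.eq_zero_iff_mem.mpr ha)
  have hι : Function.Injective ι := by
    rw [← LinearMap.ker_eq_bot]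
    exact Submodule.ker_liftQ_eq_bot _ _ _ fun a ha => Ideal.Quotient.eq_zero_iff_mem.mp ha
  refine TensorProduct.map_injective_of_flat_flat ι ι hι hι ?_
  rw [map_zero]
  refine Eq.trans ?_ (h1 hz).1.2
  show _ = Algebra.TensorProduct.map _ _ (Coalgebra.comul (R := k) z)
  induction Coalgebra.comul (R := k) z using TensorProduct.induction_on with
  | zero => simp
  | tmul a b => simp [ι]
  | add s t hs ht => simp only [map_add, hs, ht]

/-- A surjective image of a unipotent bialgebra is unipotent. -/
theorem isUnipotent_of_surjective {A B : Type v} [CommRing A] [Bialgebra k A] [CommRing B] [Bialgebra k B]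
    (π : A →ₐc[k] B) (hπ : Function.Surjective π) (hA : HopfRep.IsUnipotent k A) : HopfRep.IsUnipotent k B := by
  refine isUnipotent_of_filtrations π hπ fun U hUf hU => ?_
  letI cU : HopfRep.Comod k A U := ComodSub.Comod.restr (HopfRep.Comod.regular k A) U hU
  obtain ⟨m, F, -, h0, hm, hsub, hstep⟩ := ComodLib.isUnipotent_iff_filtration.mp hA U hUf
  let π' : U →ₗ[k] B := (π : A →ₗ[k] B) ∘ₗ U.subtype
  refine ⟨m, fun i => (F i).map π', ?_, ?_, ?_⟩
  · show (F 0).map π' = ⊥
    rw [h0, Submodule.map_bot]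
  · show (F m).map π' = _
    rw [hm, Submodule.map_comp, Submodule.map_subtype_top]
  rintro i _ ⟨y, hy, rfl⟩ φ
  obtain ⟨z, hz⟩ := hstep i y hy
  refine ⟨slice (φ ∘ₗ (π : A →ₗ[k] B)) (HopfRep.Comod.coact (k := k) (A := A) y - y ⊗ₜ[k] (1 : A)), ?_, ?_⟩
  · rw [← hz]
    clear hz
    induction z using TensorProduct.induction_on with
    | zero => simp
    | tmul p q =>
      rw [LinearMap.rTensor_tmul, slice_tmul]
      exact Submodule.smul_mem _ _ p.2
    | add p q hp hq => rw [map_add, map_add]; exact Submodule.add_mem _ hp hq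
  · rw [map_sub, map_sub, slice_tmul, map_smul]
    congr 1
    · show π (U.subtype (slice _ (cU.coact y))) = slice φ (Coalgebra.comul (R := k) (π y.1))
      rw [← ComodLib.slice_rTensor _ U.subtype, ComodSub.restr_coact_coe (HopfRep.Comod.regular k A) U hU y,
        ← CoalgHomClass.map_comp_comul_apply π y.1]
      show π (slice _ (Coalgebra.comul (R := k) y.1)) = _
      induction Coalgebra.comul (R := k) y.1 using TensorProduct.induction_on with
      | zero => simp
      | tmul p q => simp
      | add p q hp hq => simp only [map_add, hp, hq]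
    · show (φ (π (1 : A))) • π' y = φ 1 • π' y
      rw [map_one]

/-- A map induced on quotient bialgebras. -/
theorem exists_quotMap {A T : Type v} [CommRing A] [HopfAlgebra k A] [CommRing T] [Bialgebra k T] (f : A →ₐc[k] T)
    (J : Ideal A) [J.IsHopfIdeal k] (hJ : ∀ a ∈ J, f a = 0) (hf : Function.Surjective f) :
    ∃ π : (A ⧸ J) →ₐc[k] T, Function.Surjective π := by
  let l : A ⧸ J →ₐ[k] T := Ideal.Quotient.liftₐ J (f : A →ₐ[k] T) hJ
  have hl : ∀ a, l (Ideal.Quotient.mk J a) = f a := fun a => rfl
  refine ⟨BialgHom.ofAlgHom l ?_ ?_, fun t => ?_⟩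
  · refine Ideal.Quotient.algHom_ext _ (AlgHom.ext fun a => ?_)
    show Coalgebra.counit (R := k) (f a) = Coalgebra.counit (R := k) (Bialgebra.Quotient.mkBialgHom (R := k) J a)
    rw [CoalgHomClass.counit_comp_apply, CoalgHomClass.counit_comp_apply]
  · refine Ideal.Quotient.algHom_ext _ (AlgHom.ext fun a => ?_)
    show Algebra.TensorProduct.map l l (Coalgebra.comul (R := k) (Bialgebra.Quotient.mkBialgHom (R := k) J a)) =
      Coalgebra.comul (R := k) (f a)
    rw [← CoalgHomClass.map_comp_comul_apply f a,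
      ← CoalgHomClass.map_comp_comul_apply (Bialgebra.Quotient.mkBialgHom (R := k) J) a]
    induction Coalgebra.comul (R := k) a using TensorProduct.induction_on with
    | zero => simp
    | tmul p q => rfl
    | add p q hp hq => simp only [map_add, hp, hq]
  · obtain ⟨a, rfl⟩ := hf t
    exact ⟨Ideal.Quotient.mk J a, rfl⟩

/-- A group with a primitive element cutting out a unipotent subgroup is unipotent. -/
theorem isUnipotent_of_primitive {A : Type v} [CommRing A] [HopfAlgebra k A] [Algebra.FiniteType k A] (x : A)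
    (hx : Coalgebra.comul (R := k) x = x ⊗ₜ[k] (1 : A) + (1 : A) ⊗ₜ[k] x)
    (hU : ∀ (T : Type v) [CommRing T] [HopfAlgebra k T] (f : A →ₐc[k] T), Function.Surjective f → f x = 0 →
      HopfRep.IsUnipotent k T) : HopfRep.IsUnipotent k A := by
  have hεx : Coalgebra.counit (R := k) x = 0 := by
    have h := congrArg (fun z => TensorProduct.lid k A (LinearMap.rTensor A (Coalgebra.counit (R := k)) z)) hx
    simp only [Coalgebra.rTensor_counit_comul, map_add, LinearMap.rTensor_tmul, TensorProduct.lid_tmul,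
      Bialgebra.counit_one, one_smul] at h
    have h0 : Coalgebra.counit (R := k) x • (1 : A) = 0 := by simpa using h
    have := congrArg (Coalgebra.counit (R := k)) h0
    simpa using this
  have hSx : HopfAlgebra.antipode k x = -x := by
    have h := HopfAlgebra.mul_antipode_rTensor_comul_apply (R := k) x
    rw [hx, hεx, map_zero, map_add, map_add, LinearMap.rTensor_tmul, LinearMap.rTensor_tmul, LinearMap.mul'_apply,
      LinearMap.mul'_apply, HopfAlgebra.antipode_one, one_mul, mul_one] at h
    exact eq_neg_of_add_eq_zero_left h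
  let C := Algebra.adjoin k ({x} : Set A)
  have hxC : x ∈ C := Algebra.subset_adjoin rfl
  have h1 : ∀ c : C, Coalgebra.comul (R := k) (C.val c) ∈ (Algebra.TensorProduct.map C.val C.val).range := by
    rintro ⟨c, hc⟩
    refine (Algebra.adjoin_le (S := (Algebra.TensorProduct.map C.val C.val).range.comap (Bialgebra.comulAlgHom k A)) ?_) hc
    intro y hy
    rw [Set.mem_singleton_iff.mp hy]
    show Coalgebra.comul (R := k) x ∈ (Algebra.TensorProduct.map C.val C.val).range
    rw [hx]
    exact Subalgebra.add_mem _ ⟨(⟨x, hxC⟩ : C) ⊗ₜ[k] 1, rfl⟩ ⟨1 ⊗ₜ[k] (⟨x, hxC⟩ : C), rfl⟩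
  have h2 : ∀ c : C, HopfAlgebraStruct.antipode (R := k) (C.val c) ∈ C.val.range := by
    rintro ⟨c, hc⟩
    rw [Subalgebra.range_val]
    refine (Algebra.adjoin_le (S := C.comap (HopfAlgebra.antipodeAlgHom k A)) ?_) hc
    intro y hy
    rw [Set.mem_singleton_iff.mp hy]
    show HopfAlgebra.antipode k x ∈ C
    rw [hSx]
    exact C.neg_mem hxC
  letI := GrpSchLib.HopfTransfer.hopf C.val Subtype.val_injective h1 h2
  haveI : Algebra.FiniteType k C :=
    (Subalgebra.fg_iff_finiteType C).mp ⟨{x}, by rw [Finset.coe_singleton]⟩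
  let ψ : C →ₐc[k] A := BialgHom.ofAlgHom C.val rfl
    (AlgHom.ext fun c => GrpSchLib.HopfTransfer.map_comulRes C.val Subtype.val_injective h1 c)
  let J := Ideal.map (ψ : C →+* A) (RingHom.ker (Bialgebra.counitAlgHom k C))
  haveI := isHopfIdeal_map ψ
  have hxJ : Ideal.Quotient.mk J x = 0 :=
    Ideal.Quotient.eq_zero_iff_mem.mpr (Ideal.mem_map_of_mem (ψ : C →+* A) (x := (⟨x, hxC⟩ : C)) hεx)
  intro V _ _ c hfin hnt
  have hJu := hU (A ⧸ J) (Bialgebra.Quotient.mkBialgHom (R := k) J) Ideal.Quotient.mk_surjective hxJ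
  obtain ⟨w, hw, hw0⟩ := Submodule.exists_mem_ne_zero_of_ne_bot
    (@hJu V _ _ (ComodLib.pushComod ((Bialgebra.Quotient.mkBialgHom (R := k) J : A →ₐc[k] A ⧸ J) : A →ₗc[k] A ⧸ J) c) hfin hnt)
  let P : ℕ → Submodule k A := fun r => Submodule.span k ((fun i => x ^ i) '' Set.Iic r)
  have hcoef : ∀ f : V →ₗ[k] k, coeffMap f w ∈ C := fun f => by
    have h := comul_coeffMap_sub_mem (Ideal.Quotient.mkₐ k J) Ideal.Quotient.mk_surjective w hw f
    rw [show RingHom.ker (Ideal.Quotient.mkₐ k J) = J from Ideal.mk_ker] at h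
    obtain ⟨c, hc⟩ := mem_range_of_invariant ψ Subtype.val_injective _ h
    exact hc ▸ c.2
  have hCP : Subalgebra.toSubmodule C ≤ ⨆ r, P r := by
    rw [Algebra.adjoin_eq_span, Submodule.span_le]
    intro a ha
    obtain ⟨i, rfl⟩ := Submonoid.mem_closure_singleton.mp ha
    exact Submodule.mem_iSup_of_mem i (Submodule.subset_span ⟨i, Set.self_mem_Iic, rfl⟩)
  have hPmono : Monotone P := fun r s h => Submodule.span_mono (Set.image_mono (Set.Iic_subset_Iic.mpr h))
  obtain ⟨r, hr⟩ : ∃ r, ∀ i, coeffMap ((Module.finBasis k V).coord i) w ∈ P r := by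
    choose g hg using fun i => (Submodule.mem_iSup_of_directed _ hPmono.directed_le).mp
      (hCP (hcoef ((Module.finBasis k V).coord i)))
    exact ⟨Finset.univ.sup g, fun i => hPmono (Finset.le_sup (Finset.mem_univ i)) (hg i)⟩
  refine exists_fixed_of_levels P ?_ ?_ w hw0 r ?_
  · refine Submodule.span_le.mpr ?_
    rintro _ ⟨i, hi, rfl⟩
    rw [Nat.le_zero.mp hi]
    exact Submodule.mem_span_singleton.mpr ⟨1, by simp⟩
  · intro r φ hφ a ha
    induction ha using Submodule.span_induction with
    | zero => simp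
    | add p q _ _ hp hq => rw [map_add, map_add]; exact Submodule.add_mem _ hp hq
    | smul c p _ hp => rw [map_smul, map_smul]; exact Submodule.smul_mem _ c hp
    | mem a ha =>
      obtain ⟨i, hi, rfl⟩ := ha
      have hcomm : Commute (x ⊗ₜ[k] (1 : A)) ((1 : A) ⊗ₜ[k] x) := Commute.all _ _
      rw [show Coalgebra.comul (R := k) (x ^ i) = Coalgebra.comul (R := k) x ^ i from map_pow (Bialgebra.comulAlgHom k A) x i,
        hx, hcomm.add_pow, map_sum]
      refine Submodule.sum_mem _ fun j hj => ?_
      rw [Algebra.TensorProduct.tmul_pow, Algebra.TensorProduct.tmul_pow, one_pow, one_pow,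
        Algebra.TensorProduct.tmul_mul_tmul, mul_one, one_mul, ← nsmul_eq_mul', map_nsmul, slice_tmul]
      refine Submodule.smul_of_tower_mem _ _ ?_
      by_cases hji : j = i
      · rw [hji, Nat.sub_self, pow_zero, hφ, zero_smul]
        exact Submodule.zero_mem _
      · refine Submodule.smul_mem _ _ (Submodule.subset_span ⟨j, ?_, rfl⟩)
        have := Finset.mem_range.mp hj
        simp only [Set.mem_Iic] at hi ⊢
        omega
  · rw [coact_eq_sum (Module.finBasis k V) w]
    exact Submodule.sum_mem _ fun i _ => ⟨_ ⊗ₜ[k] ⟨_, hr i⟩, rfl⟩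

/-- A bialgebra injecting into a unipotent one by a bijection is unipotent. -/
theorem isUnipotent_of_bijective {A B : Type v} [CommRing A] [Bialgebra k A] [CommRing B] [Bialgebra k B]
    (π : A →ₐc[k] B) (hπ : Function.Injective π) (hB : HopfRep.IsUnipotent k B) : HopfRep.IsUnipotent k A := by
  intro V _ _ c hfin hnt
  obtain ⟨w, hw, hw0⟩ := Submodule.exists_mem_ne_zero_of_ne_bot
    (@hB V _ _ (ComodLib.pushComod (π : A →ₗc[k] B) c) hfin hnt)
  refine (Submodule.ne_bot_iff _).mpr ⟨w, ?_, hw0⟩
  refine Module.Flat.lTensor_preserves_injective_linearMap (π : A →ₗ[k] B) hπ ?_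
  refine Eq.trans hw ?_
  rw [LinearMap.lTensor_tmul]
  exact congrArg (w ⊗ₜ[k] ·) (map_one (π : A →ₐ[k] B)).symm

end Groth.Agent.TakeuchiLib
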