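import Groth.Agent.TakeuchiLib.BaseChange
import Groth.Agent.GeomSep.Basic
import Groth.Prelude.Def_SGA3b
import Mathlib.RingTheory.Smooth.Basic
import Mathlib.RingTheory.Spectrum.Prime.Topology

/-!
# Morphisms from smooth connected unipotent groups to groups of multiplicative type
-/

universe u

set_option autoImplicit false
set_option backward.isDefEq.respectTransparency false
set_option backward.isDefEq.respectTransparency.types false

open TensorProduct

namespace Groth.Agent.TakeuchiLib

theorem connectedSpace_of_noIdem (T : Type u) [CommRing T] [Nontrivial T]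
    (h : ∀ e : T, IsIdempotentElem e → e = 0 ∨ e = 1) : ConnectedSpace (PrimeSpectrum T) := by
  rw [connectedSpace_iff_clopen]
  refine ⟨inferInstance, fun s hs => ?_⟩
  obtain ⟨e, he, rfl⟩ := PrimeSpectrum.isClopen_iff.mp hs
  rcases h e he with rfl | rfl
  · left; simp
  · right; simp

theorem noIdem_of_connectedSpace {T : Type u} [CommRing T] [ConnectedSpace (PrimeSpectrum T)] (e : T)
    (he : IsIdempotentElem e) : e = 0 ∨ e = 1 := by
  rcases isClopen_iff.mp (PrimeSpectrum.isClopen_iff.mpr ⟨e, he, rfl⟩) with h | h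
  · exact Or.inl (he.eq_zero_of_isNilpotent (PrimeSpectrum.basicOpen_eq_bot_iff e |>.mp (TopologicalSpace.Opens.ext h)))
  · refine Or.inr ((IsIdempotentElem.iff_eq_one_of_isUnit ?_).mp he)
    by_contra hu
    obtain ⟨M, hM, heM⟩ := exists_max_ideal_of_mem_nonunits hu
    exact (h.symm ▸ Set.mem_univ (⟨M, hM.isPrime⟩ : PrimeSpectrum T) :) heM

variable {k : Type u} [Field k] {C : Type u} [CommRing C] [HopfAlgebra k C]

/-- Connected groups stay connected over every field. -/
theorem noIdem_field (hconn : ∀ e : C, IsIdempotentElem e → e = 0 ∨ e = 1) (K : Type u) [Field K] [Algebra k K] :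
    ∀ e : K ⊗[k] C, IsIdempotentElem e → e = 0 ∨ e = 1 := by
  let kb := AlgebraicClosure k
  haveI : Nontrivial (kb ⊗[k] C) := (Bialgebra.counitAlgHom kb (kb ⊗[k] C)).toRingHom.domain_nontrivial
  haveI : ConnectedSpace (PrimeSpectrum (kb ⊗[k] C)) := connectedSpace_of_noIdem _ fun e he => by
    let f := Algebra.TensorProduct.comm k kb C
    rcases no_idem_baseChange kb hconn (Bialgebra.counitAlgHom k C) (f e) (he.map f) with h | h
    · exact Or.inl (f.injective (h.trans (map_zero f).symm))
    · exact Or.inr (f.injective (h.trans (map_one f).symm))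
  haveI := GeomSep.geometricallyConnected_of_isSepClosed (k := k) (R := C) kb K
  exact noIdem_of_connectedSpace

variable [Algebra.FiniteType k C] [Algebra.FormallySmooth k C]

/-- Morphisms of schemes from a smooth connected unipotent group to a group of multiplicative type are constant. -/
theorem algHom_const (hconn : ∀ e : C, IsIdempotentElem e → e = 0 ∨ e = 1) (hU : HopfRep.IsUnipotent k C)
    {B : Type u} [CommRing B] [HopfAlgebra k B] (hB : SGA3b.IsMultTypeConst k B) (f : B →ₐ[k] C) (b : B) :
    f b = algebraMap k C (Bialgebra.counitAlgHom k C (f b)) := by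
  obtain ⟨R', _, _, hff, M, _, ⟨e⟩⟩ := hB
  haveI := hff
  haveI : Nontrivial R' := by
    by_contra hn
    haveI := not_nontrivial_iff_subsingleton.mp hn
    exact Module.FaithfullyFlat.submodule_ne_top (R := k) (M := R') (Ideal.bot_isMaximal (K := k)) (Subsingleton.elim _ _)
  obtain ⟨m, hm⟩ := Ideal.exists_maximal R'
  letI := Ideal.Quotient.field m
  let K := AlgebraicClosure (R' ⧸ m)
  let ρ : R' →ₐ[k] K := (IsScalarTower.toAlgHom k (R' ⧸ m) K).comp (Ideal.Quotient.mkₐ k m)
  let D := K ⊗[k] C
  haveI : Algebra.FinitePresentation k C := Algebra.FinitePresentation.of_finiteType.mp inferInstance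
  haveI : Algebra.Smooth k C := ⟨inferInstance, inferInstance⟩
  haveI : Algebra.Smooth K D := inferInstance
  haveI : _root_.IsReduced D := QRepLib.isReduced_of_smooth_algebra K D
  have hunit := unit_eq_algebraMap (K := K) (D := D) (noIdem_field hconn K) (isUnipotent_baseChange K hU)
  let Φ : R' ⊗[k] B →ₐ[k] D := Algebra.TensorProduct.map ρ f
  have hconst : ∀ z : MonoidAlgebra R' M, ∃ c : K, Φ (e.symm z) = algebraMap K D c := by
    intro z
    induction z using MonoidAlgebra.induction_linear with
    | zero => exact ⟨0, by rw [map_zero, map_zero, map_zero]⟩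
    | add p q hp hq =>
      obtain ⟨c, hc⟩ := hp
      obtain ⟨d, hd⟩ := hq
      exact ⟨c + d, by rw [map_add, map_add, hc, hd, map_add]⟩
    | single g r =>
      have hu : IsUnit (Φ (e.symm (MonoidAlgebra.single g (1 : R')))) :=
        (((Group.isUnit g).map (MonoidAlgebra.of R' M)).map (e.symm : MonoidAlgebra R' M →ₐ[R'] R' ⊗[k] B)).map Φ
      obtain ⟨c, hc⟩ : ∃ c : K, Φ (e.symm (MonoidAlgebra.single g (1 : R'))) = algebraMap K D c :=
        ⟨_, hunit hu.unit⟩
      refine ⟨ρ r * c, ?_⟩
      have hs : (MonoidAlgebra.single g r : MonoidAlgebra R' M) = r • MonoidAlgebra.single g (1 : R') := by simp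
      rw [hs, map_smul, map_mul, ← hc, Algebra.smul_def, map_mul]
      congr 1
      simp [Φ, D, Algebra.TensorProduct.algebraMap_apply]
  obtain ⟨c, hc⟩ := hconst (e ((1 : R') ⊗ₜ[k] b))
  have h1 : Φ ((1 : R') ⊗ₜ[k] b) = algebraMap K D c := by
    rw [← hc]
    congr 1
    exact (e.toEquiv.symm_apply_apply _).symm
  rw [show Φ ((1 : R') ⊗ₜ[k] b) = (1 : K) ⊗ₜ[k] f b from congrArg (· ⊗ₜ[k] f b) (map_one ρ)] at h1
  have hc' : c = algebraMap k K (Bialgebra.counitAlgHom k C (f b)) := by
    have h := congrArg (Bialgebra.counitAlgHom K D) h1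
    simp only [D, Bialgebra.counitAlgHom_apply, Bialgebra.counit_algebraMap, TensorProduct.counit_tmul] at h
    simp [← h, Algebra.algebraMap_eq_smul_one]
  refine Algebra.TensorProduct.includeRight_injective (R := k) (A := K) (algebraMap k K).injective ?_
  show (1 : K) ⊗ₜ[k] f b = (1 : K) ⊗ₜ[k] algebraMap k C _
  rw [h1, hc', ← IsScalarTower.algebraMap_apply k K D]
  exact ((Algebra.TensorProduct.includeRight : C →ₐ[k] D).commutes _).symm

end Groth.Agent.TakeuchiLib
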