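import Groth.Agent.GrpSchLib.HopfFlat
import Groth.Agent.GrpSchLib.HopfQuotEtale
import Groth.Agent.ComodLib.Trig
import Groth.Agent.DescLib.Amitsur
import Mathlib.RingTheory.HopfAlgebra.Quotient
import Mathlib.RingTheory.Coalgebra.GroupLike

/-!
# Coefficients of vectors fixed by a kernel; unipotence from filtrations
-/

universe u v w

set_option autoImplicit false
set_option backward.isDefEq.respectTransparency false
set_option backward.isDefEq.respectTransparency.types false

open TensorProduct WithConv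

namespace Groth.Agent.TakeuchiLib

open ComodLib (slice slice_tmul actF actF_apply actF_counit)

variable {k : Type u} [Field k]

section Invariants

variable {A C : Type v} [CommRing A] [CommRing C] [HopfAlgebra k A] [HopfAlgebra k C]
  [Algebra.FiniteType k A] [Algebra.FiniteType k C]

/-- For an injective map of Hopf algebras `ψ : C → A`, elements invariant under the kernel come from `C`. -/
theorem mem_range_of_invariant (ψ : C →ₐc[k] A) (hψ : Function.Injective ψ) (a : A)
    (h : Coalgebra.comul (R := k) a - a ⊗ₜ[k] (1 : A) ∈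
      LinearMap.range (((Ideal.map (ψ : C →+* A) (RingHom.ker (Bialgebra.counitAlgHom k C))).restrictScalars k).subtype.lTensor A)) :
    a ∈ Set.range ψ := by
  letI : Algebra C A := (ψ : C →ₐ[k] A).toRingHom.toAlgebra
  haveI : IsScalarTower k C A := IsScalarTower.of_algebraMap_eq fun c => ((ψ : C →ₐ[k] A).commutes c).symm
  haveI : Module.FaithfullyFlat C A := GrpSchLib.HopfFlat.faithfullyFlat ψ hψ
  let L : A →ₐ[k] A ⊗[C] A := (Algebra.TensorProduct.includeLeft : A →ₐ[C] A ⊗[C] A).restrictScalars k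
  let R : A →ₐ[k] A ⊗[C] A := (Algebra.TensorProduct.includeRight : A →ₐ[C] A ⊗[C] A).restrictScalars k
  let Θ : A →ₐ[k] A ⊗[C] A :=
    (toConv (L.comp (HopfAlgebra.antipodeAlgHom k A)) * toConv R).ofConv
  have hLR : L.comp (ψ : C →ₐ[k] A) = R.comp (ψ : C →ₐ[k] A) :=
    AlgHom.ext fun c => (Algebra.TensorProduct.includeLeft : A →ₐ[C] A ⊗[C] A).commutes c |>.trans
      ((Algebra.TensorProduct.includeRight : A →ₐ[C] A ⊗[C] A).commutes c).symm
  have hΘ : Θ.comp (ψ : C →ₐ[k] A) = (1 : WithConv (C →ₐ[k] A ⊗[C] A)).ofConv := by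
    show AlgHom.comp _ (ψ : C →ₐ[k] A) = _
    rw [AlgHom.convMul_comp_bialgHom_distrib]
    simp only [WithConv.ofConv_toConv, AlgHom.comp_assoc]
    rw [show (HopfAlgebra.antipodeAlgHom k A).comp (ψ : C →ₐ[k] A) =
        (ψ : C →ₐ[k] A).comp (HopfAlgebra.antipodeAlgHom k C) from AlgHom.ext fun c =>
          GrpSchLib.HopfGalois.antipode_bialgHom ψ c, ← AlgHom.comp_assoc, hLR,
      GrpSchLib.HopfQuot.inv_convMul_self]
  have hJ : ∀ z ∈ Ideal.map (ψ : C →+* A) (RingHom.ker (Bialgebra.counitAlgHom k C)), Θ z = 0 := by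
    intro z hz
    refine (Ideal.map_le_iff_le_comap.mpr (fun c hc => ?_) : _ ≤ RingHom.ker Θ.toRingHom) hz
    show Θ (ψ c) = 0
    refine (AlgHom.congr_fun hΘ c).trans ?_
    show algebraMap k _ (Coalgebra.counit (R := k) c) = 0
    rw [show Coalgebra.counit (R := k) c = 0 from hc, map_zero]
  let m : A ⊗[k] A →ₐ[k] A ⊗[C] A := Algebra.TensorProduct.lift L Θ fun _ _ => Commute.all _ _
  have h1 : (toConv L * toConv Θ).ofConv = R := by
    show (toConv L * (toConv (L.comp (HopfAlgebra.antipodeAlgHom k A)) * toConv R)).ofConv = R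
    rw [← mul_assoc, GrpSchLib.HopfQuot.self_convMul_inv, one_mul]
  have hm : m (Coalgebra.comul (R := k) a) = R a := by
    refine Eq.trans ?_ (AlgHom.congr_fun h1 a)
    rw [GrpSchLib.HopfQuot.convMul_apply]
    induction Coalgebra.comul (R := k) a using TensorProduct.induction_on with
    | zero => simp
    | tmul p q => simp [m]
    | add p q hp hq => simp only [map_add, hp, hq]
  have heq : a ⊗ₜ[C] (1 : A) = (1 : A) ⊗ₜ[C] a := by
    obtain ⟨z, hz⟩ := h
    have h0 : m (Coalgebra.comul (R := k) a - a ⊗ₜ[k] (1 : A)) = 0 := by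
      rw [← hz]
      clear hz
      induction z using TensorProduct.induction_on with
      | zero => simp
      | tmul p q => simp [m, hJ q.1 q.2]
      | add p q hp hq => simp only [map_add, hp, hq, add_zero]
    rw [map_sub, sub_eq_zero, hm] at h0
    simpa [m, L, R] using h0.symm
  obtain ⟨c, hc⟩ := DescLib.mem_range_of_one_tmul_mem (A := A) (Algebra.linearMap C A) a
    ⟨a ⊗ₜ[C] (1 : C), by rw [LinearMap.lTensor_tmul, Algebra.linearMap_apply, map_one]; exact heq⟩
  exact ⟨c, hc⟩

end Invariants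

section Coefficients

variable {A : Type v} [CommRing A] [Bialgebra k A] {V : Type w} [AddCommGroup V] [Module k V] [HopfRep.Comod k A V]

/-- The coefficient map of a linear form on a comodule. -/
noncomputable def coeffMap (f : V →ₗ[k] k) : V →ₗ[k] A :=
  (TensorProduct.lid k A).toLinearMap ∘ₗ f.rTensor A ∘ₗ HopfRep.Comod.coact (k := k) (A := A)

theorem isComodHom_coeffMap (f : V →ₗ[k] k) : Hoch.IsComodHom A (coeffMap (A := A) f) := by
  refine LinearMap.ext fun v => ?_
  have hc := congrArg ((TensorProduct.lid k A).toLinearMap.rTensor A ∘ₗ (f.rTensor A).rTensor A)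
    (congrArg (TensorProduct.assoc k V A A).symm
      (LinearMap.congr_fun (HopfRep.Comod.coassoc (k := k) (A := A) (V := V)) v))
  simp only [LinearMap.comp_apply, LinearEquiv.coe_coe, LinearEquiv.symm_apply_apply] at hc
  simp only [coeffMap, LinearMap.comp_apply, LinearEquiv.coe_coe, LinearMap.rTensor_comp]
  refine (Eq.trans hc ?_).symm
  show _ = Coalgebra.comul (R := k) _
  induction HopfRep.Comod.coact (k := k) (A := A) v using TensorProduct.induction_on with
  | zero => simp
  | add p q hp hq => simp only [map_add, hp, hq]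
  | tmul x b =>
    rw [LinearMap.lTensor_tmul, LinearMap.rTensor_tmul, TensorProduct.lid_tmul, map_smul]
    induction Coalgebra.comul (R := k) b using TensorProduct.induction_on with
    | zero => simp
    | tmul p q => simp [TensorProduct.smul_tmul']
    | add p q hp hq => simp only [tmul_add, map_add, smul_add, hp, hq]

theorem apply_coeffMap (f : V →ₗ[k] k) (φ : A →ₗ[k] k) (v : V) :
    φ (coeffMap f v) = f (actF φ v) := by
  rw [actF_apply]
  simp only [coeffMap, LinearMap.comp_apply, LinearEquiv.coe_coe]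
  induction HopfRep.Comod.coact (k := k) (A := A) v using TensorProduct.induction_on with
  | zero => simp
  | tmul x a => simp [mul_comm]
  | add p q hp hq => simp only [map_add, hp, hq]

theorem counit_coeffMap (f : V →ₗ[k] k) (v : V) : Coalgebra.counit (R := k) (coeffMap (A := A) f v) = f v := by
  rw [apply_coeffMap, actF_counit]

theorem coact_eq_sum {ι : Type*} [Fintype ι] (b : Module.Basis ι k V) (v : V) :
    HopfRep.Comod.coact (k := k) (A := A) v = ∑ i, b i ⊗ₜ[k] coeffMap (b.coord i) v := by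
  simp only [coeffMap, LinearMap.comp_apply, LinearEquiv.coe_coe]
  induction HopfRep.Comod.coact (k := k) (A := A) v using TensorProduct.induction_on with
  | zero => simp
  | add p q hp hq => simp only [map_add, tmul_add, Finset.sum_add_distrib, ← hp, ← hq]
  | tmul x a =>
    simp only [LinearMap.rTensor_tmul, TensorProduct.lid_tmul, Module.Basis.coord_apply, ← TensorProduct.smul_tmul,
      ← TensorProduct.sum_tmul, b.sum_repr]

theorem coact_mem [Module.Finite k V] (P : Submodule k A) (v : V) (h : ∀ f : V →ₗ[k] k, coeffMap f v ∈ P) :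
    HopfRep.Comod.coact (k := k) (A := A) v ∈ LinearMap.range (P.subtype.lTensor V) := by
  rw [coact_eq_sum (Module.finBasis k V) v]
  exact Submodule.sum_mem _ fun i _ => ⟨_ ⊗ₜ[k] ⟨_, h _⟩, rfl⟩

theorem coact_actF (φ : A →ₗ[k] k) (v : V) :
    HopfRep.Comod.coact (k := k) (A := A) (actF φ v) =
      LinearMap.lTensor V (slice φ ∘ₗ Coalgebra.comul (R := k) (A := A)) (HopfRep.Comod.coact (k := k) (A := A) v) := by
  have hc := congrArg (LinearMap.lTensor V (slice (V := A) (C := A) φ))
    (LinearMap.congr_fun (HopfRep.Comod.coassoc (k := k) (A := A) (V := V)) v)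
  simp only [LinearMap.comp_apply, LinearEquiv.coe_coe] at hc
  rw [LinearMap.lTensor_comp_apply]
  refine Eq.trans ?_ hc
  rw [actF_apply]
  induction HopfRep.Comod.coact (k := k) (A := A) v using TensorProduct.induction_on with
  | zero => simp
  | add p q hp hq => simp only [map_add, hp, hq]
  | tmul x a =>
    rw [LinearMap.rTensor_tmul, slice_tmul, map_smul]
    induction HopfRep.Comod.coact (k := k) (A := A) x using TensorProduct.induction_on with
    | zero => simp
    | tmul y c => simp [TensorProduct.smul_tmul]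
    | add p q hp hq => simp only [TensorProduct.add_tmul, map_add, smul_add, hp, hq]

/-- Coefficients of a vector fixed by a closed subscheme are invariant under it. -/
theorem comul_coeffMap_sub_mem {A Q : Type v} [CommRing A] [Bialgebra k A] [CommRing Q] [Algebra k Q]
    (q : A →ₐ[k] Q) (hq : Function.Surjective q)
    {V : Type w} [AddCommGroup V] [Module k V] [HopfRep.Comod k A V] (v : V)
    (hv : LinearMap.lTensor V q.toLinearMap (HopfRep.Comod.coact (k := k) (A := A) v) = v ⊗ₜ[k] (1 : Q))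
    (f : V →ₗ[k] k) : Coalgebra.comul (R := k) (coeffMap (A := A) f v) - coeffMap f v ⊗ₜ[k] (1 : A) ∈
      LinearMap.range (((RingHom.ker q).restrictScalars k).subtype.lTensor A) := by
  have hex : Function.Exact ((RingHom.ker q).restrictScalars k).subtype q.toLinearMap :=
    LinearMap.exact_iff.mpr (by rw [Submodule.range_subtype]; rfl)
  refine (lTensor_exact A hex hq _).mp ?_
  rw [map_sub, LinearMap.lTensor_tmul, sub_eq_zero]
  have h1 : Coalgebra.comul (R := k) (coeffMap (A := A) f v) =
      (coeffMap (A := A) f).rTensor A (HopfRep.Comod.coact (k := k) (A := A) v) :=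
    LinearMap.congr_fun (isComodHom_coeffMap (A := A) f) v
  rw [h1, ← LinearMap.comp_apply, LinearMap.lTensor_comp_rTensor, ← LinearMap.rTensor_comp_lTensor,
    LinearMap.comp_apply, hv, LinearMap.rTensor_tmul]
  simp

/-- A fixed vector from an exhaustive filtration of the coefficients. -/
theorem exists_fixed_of_levels (P : ℕ → Submodule k A) (h0 : P 0 ≤ Submodule.span k {(1 : A)})
    (hP : ∀ r, ∀ φ : A →ₗ[k] k, φ 1 = 0 → ∀ a ∈ P (r + 1), slice φ (Coalgebra.comul (R := k) a) ∈ P r)
    (v : V) (hv0 : v ≠ 0) (r : ℕ) (hv : HopfRep.Comod.coact (k := k) (A := A) v ∈ LinearMap.range ((P r).subtype.lTensor V)) :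
    HopfRep.fixedPts k A V ≠ ⊥ := by
  induction r generalizing v with
  | zero =>
    obtain ⟨w, hw⟩ : ∃ w : V, HopfRep.Comod.coact (k := k) (A := A) v = w ⊗ₜ[k] (1 : A) := by
      obtain ⟨z, hz⟩ := hv
      rw [← hz]
      clear hz
      induction z using TensorProduct.induction_on with
      | zero => exact ⟨0, by simp⟩
      | tmul y a =>
        obtain ⟨c, hc⟩ := Submodule.mem_span_singleton.mp (h0 a.2)
        exact ⟨c • y, by simp [← hc, TensorProduct.smul_tmul]⟩
      | add p q hp hq =>
        obtain ⟨y, hy⟩ := hp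
        obtain ⟨y', hy'⟩ := hq
        exact ⟨y + y', by rw [map_add, hy, hy', TensorProduct.add_tmul]⟩
    have hwv : w = v := by
      have := actF_counit (k := k) (C := A) v
      rw [actF_apply, hw, slice_tmul, Bialgebra.counit_one, one_smul] at this
      exact this
    exact (Submodule.ne_bot_iff _).mpr ⟨v, by rw [hwv] at hw; exact hw, hv0⟩
  | succ r ih =>
    by_cases h : ∀ φ : A →ₗ[k] k, φ 1 = 0 → actF φ v = 0
    · refine (Submodule.ne_bot_iff _).mpr ⟨v, ComodLib.ext_of_forall_slice_eq fun φ => ?_, hv0⟩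
      have := h (φ + (-(φ 1)) • Coalgebra.counit (R := k) (A := A)) (by simp)
      rw [ComodLib.actF_add, ComodLib.actF_smul, LinearMap.add_apply, LinearMap.smul_apply,
        actF_counit, neg_smul, ← sub_eq_add_neg, sub_eq_zero, actF_apply] at this
      rw [this, slice_tmul]
    · push Not at h
      obtain ⟨φ, hφ, hne⟩ := h
      refine ih _ hne ?_
      rw [coact_actF]
      obtain ⟨z, hz⟩ := hv
      rw [← hz]
      clear hz
      induction z using TensorProduct.induction_on with
      | zero => simp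
      | tmul y a => exact ⟨y ⊗ₜ[k] ⟨_, hP r φ hφ a.1 a.2⟩, rfl⟩
      | add p q hp hq => rw [map_add, map_add]; exact Submodule.add_mem _ hp hq

/-- A bialgebra all of whose elements come from filtered subcomodules with trivial graded pieces is unipotent. -/
theorem isUnipotent_of_filtrations {A B : Type v} [CommRing A] [Bialgebra k A] [CommRing B] [Bialgebra k B]
    (π : A →ₐc[k] B) (hπ : Function.Surjective π)
    (h : ∀ (U : Submodule k A), Module.Finite k U → HopfRep.IsSubcomod (k := k) (A := A) U →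
      ∃ (m : ℕ) (F : ℕ → Submodule k B), F 0 = ⊥ ∧ F m = U.map (π : A →ₗ[k] B) ∧
        ∀ i, ∀ b ∈ F (i + 1), ∀ φ : B →ₗ[k] k, slice φ (Coalgebra.comul (R := k) b) - φ 1 • b ∈ F i) :
    HopfRep.IsUnipotent k B := by
  classical
  intro V _ _ c _ hnt
  obtain ⟨S, -, -, hS, hS0, hmin⟩ := ComodLib.exists_simple_le
    (ComodLib.isSubcomod_top (k := k) (C := B) (V := V)) top_ne_bot
  obtain ⟨s₀, hs₀, hs₀0⟩ := Submodule.exists_mem_ne_zero_of_ne_bot hS0
  obtain ⟨f, hf⟩ := Module.Projective.exists_dual_ne_zero k hs₀0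
  let j : V →ₗ[k] B := coeffMap f
  have hj : Hoch.IsComodHom B j := isComodHom_coeffMap f
  have hinj : ∀ x ∈ S, j x = 0 → x = 0 := by
    intro x hx hjx
    rcases hmin _ (ComodLib.isSubcomod_inf (ComodLib.isSubcomod_ker hj) hS) inf_le_right with h' | h'
    · exact (Submodule.mem_bot k).mp (h' ▸ ⟨LinearMap.mem_ker.mpr hjx, hx⟩)
    · have : j s₀ = 0 := (h'.ge hs₀).1
      exact absurd (by rw [← counit_coeffMap (A := B) f s₀, show coeffMap (A := B) f s₀ = 0 from this, map_zero]) hf
  choose a ha using hπ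
  haveI : Module.Finite k S := inferInstance
  obtain ⟨U, hUf, haU, hU⟩ := ComodLib.exists_finite_subcomod_le (k := k) (C := A) (V := A)
    (Set.finite_range fun i => a (j (Module.finBasis k S i).1))
  obtain ⟨m, F, hF0, hFm, hF⟩ := h U hUf hU
  let p : ℕ → Prop := fun i => ∃ v ∈ S, v ≠ 0 ∧ j v ∈ F i
  have hex : ∃ i, p i := by
    refine ⟨m, s₀, hs₀, hs₀0, ?_⟩
    rw [hFm]
    have h1 : (⊤ : Submodule k S) ≤ (U.map (π : A →ₗ[k] B)).comap (j ∘ₗ S.subtype) := by
      rw [← (Module.finBasis k S).span_eq, Submodule.span_le]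
      rintro _ ⟨i, rfl⟩
      exact ⟨_, haU ⟨i, rfl⟩, ha _⟩
    exact h1 (Submodule.mem_top : (⟨s₀, hs₀⟩ : S) ∈ ⊤)
  obtain ⟨i, hi⟩ := Nat.exists_eq_succ_of_ne_zero (n := Nat.find hex) fun h0 => by
    obtain ⟨v, hvS, hv0, hvF⟩ := h0 ▸ Nat.find_spec hex
    rw [hF0, Submodule.mem_bot] at hvF
    exact hv0 (hinj v hvS hvF)
  obtain ⟨v, hvS, hv0, hvF⟩ := hi ▸ Nat.find_spec hex
  refine (Submodule.ne_bot_iff _).mpr ⟨v, ComodLib.ext_of_forall_slice_eq fun φ => ?_, hv0⟩
  rw [slice_tmul, ← sub_eq_zero]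
  by_contra hne
  refine Nat.find_min hex (show i < Nat.find hex by omega) ⟨_, ?_, hne, ?_⟩
  · exact S.sub_mem (ComodLib.subcomod_actF_mem hS φ hvS) (S.smul_mem _ hvS)
  · rw [map_sub, map_smul, show slice φ (HopfRep.Comod.coact (k := k) (A := B) v) = actF φ v from rfl,
      ComodLib.comodHom_actF hj φ v]
    exact hF i _ hvF φ

end Coefficients

/-- A primitive element in a nontrivial unipotent bialgebra. -/
theorem exists_primitive {A : Type v} [CommRing A] [Bialgebra k A] (hU : HopfRep.IsUnipotent k A) (b : A)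
    (hb : b ∉ Submodule.span k {(1 : A)}) :
    ∃ x : A, x ≠ 0 ∧ Coalgebra.comul (R := k) x = x ⊗ₜ[k] (1 : A) + (1 : A) ⊗ₜ[k] x := by
  classical
  obtain ⟨U, hUf, hbU, hUs⟩ := ComodLib.exists_finite_subcomod_le (k := k) (C := A) (V := A) (Set.finite_singleton b)
  let cU : HopfRep.Comod k A U := ComodSub.Comod.restr (HopfRep.Comod.regular k A) U hUs
  letI := cU
  obtain ⟨m, F, -, h0, hm, -, hstep⟩ := ComodLib.isUnipotent_iff_filtration.mp hU U hUf
  have hex : ∃ i, ∃ v ∈ F i, (v : A) ∉ Submodule.span k {(1 : A)} :=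
    ⟨m, ⟨b, hbU rfl⟩, hm ▸ Submodule.mem_top, hb⟩
  obtain ⟨i, hi⟩ := Nat.exists_eq_succ_of_ne_zero (n := Nat.find hex) fun h => by
    obtain ⟨v, hv, hv1⟩ := h ▸ Nat.find_spec hex
    rw [h0, Submodule.mem_bot] at hv
    rw [hv] at hv1
    exact hv1 (Submodule.zero_mem _)
  obtain ⟨v, hv, hv1⟩ := hi ▸ Nat.find_spec hex
  obtain ⟨z, hz⟩ := hstep i v hv
  have hmem : ∀ y : F i, ((y : U) : A) ∈ Submodule.span k {(1 : A)} := fun y => by
    by_contra hy
    exact Nat.find_min hex (show i < Nat.find hex by omega) ⟨y, y.2, hy⟩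
  have hres : Coalgebra.comul (R := k) (v : A) = U.subtype.rTensor A (cU.coact v) :=
    (ComodSub.restr_coact_coe (HopfRep.Comod.regular k A) U hUs v).symm
  obtain ⟨w, hw⟩ : ∃ w : A, Coalgebra.comul (R := k) (v : A) - (v : A) ⊗ₜ[k] (1 : A) = (1 : A) ⊗ₜ[k] w := by
    rw [hres, show (v : A) ⊗ₜ[k] (1 : A) = U.subtype.rTensor A (v ⊗ₜ[k] (1 : A)) from rfl, ← map_sub, ← hz]
    clear hz
    induction z using TensorProduct.induction_on with
    | zero => exact ⟨0, by simp⟩
    | tmul y a =>
      obtain ⟨c, hc⟩ := Submodule.mem_span_singleton.mp (hmem y)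
      exact ⟨c • a, by simp [← hc, TensorProduct.smul_tmul]⟩
    | add p q hp hq =>
      obtain ⟨y, hy⟩ := hp
      obtain ⟨y', hy'⟩ := hq
      exact ⟨y + y', by rw [map_add, map_add, hy, hy', TensorProduct.tmul_add]⟩
  have hε := congrArg (fun t => TensorProduct.lid k A (LinearMap.rTensor A (Coalgebra.counit (R := k)) t)) hw
  simp only [map_sub, Coalgebra.rTensor_counit_comul, LinearMap.rTensor_tmul, TensorProduct.lid_tmul,
    Bialgebra.counit_one, one_smul] at hε
  refine ⟨w, fun h => hv1 (Submodule.mem_span_singleton.mpr ⟨Coalgebra.counit (R := k) (v : A), ?_⟩), ?_⟩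
  · rw [h, sub_eq_zero] at hε
    exact hε.symm
  · have e : Coalgebra.comul (R := k) (v : A) = (v : A) ⊗ₜ[k] (1 : A) + (1 : A) ⊗ₜ[k] w := by
      rw [← hw, add_sub_cancel]
    rw [← hε, map_sub, map_smul, Bialgebra.comul_one, e, hε, Algebra.TensorProduct.one_def,
      show w ⊗ₜ[k] (1 : A) = (v : A) ⊗ₜ[k] (1 : A) - Coalgebra.counit (R := k) (v : A) • ((1 : A) ⊗ₜ[k] (1 : A)) by
        rw [← hε, TensorProduct.sub_tmul, TensorProduct.smul_tmul']]
    abel

end Groth.Agent.TakeuchiLib
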