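import Groth.Agent.TakeuchiLib.Unip
import Mathlib.RingTheory.HopfAlgebra.TensorProduct
import Mathlib.RingTheory.DiscreteValuationRing.Basic
import Mathlib.RingTheory.LocalRing.ResidueField.Basic

/-!
# Unipotence and trigonalizability pass to the special fibre
-/

universe u v w

set_option autoImplicit false
set_option backward.isDefEq.respectTransparency false
set_option backward.isDefEq.respectTransparency.types false

open TensorProduct

namespace Groth.Agent.TakeuchiLib

open ComodLib (slice slice_tmul actF actF_apply)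

section Exhaust

variable {k : Type u} [Field k] {B : Type v} [CommRing B] [Bialgebra k B]

/-- Unipotence from filtered finite pieces of the regular comodule. -/
theorem isUnipotent_of_exhaust
    (h : ∀ s : Finset B, ∃ (m : ℕ) (F : ℕ → Submodule k B), F 0 = ⊥ ∧ ↑s ⊆ (F m : Set B) ∧
      ∀ i, ∀ b ∈ F (i + 1), ∀ φ : B →ₗ[k] k, slice φ (Coalgebra.comul (R := k) b) - φ 1 • b ∈ F i) :
    HopfRep.IsUnipotent k B := by
  classical
  intro V _ _ c _ hnt
  obtain ⟨v₀, hv₀⟩ := exists_ne (0 : V)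
  choose m F hF0 hFm hF using h
  let b := Module.finBasis k V
  let s : Finset B := Finset.univ.image fun p : Fin (Module.finrank k V) × Fin (Module.finrank k V) =>
    coeffMap (A := B) (b.coord p.1) (b p.2)
  have hcoef : ∀ i v, coeffMap (A := B) (b.coord i) v ∈ F s (m s) := fun i v => by
    rw [← b.sum_repr v, map_sum]
    refine Submodule.sum_mem _ fun l _ => ?_
    rw [map_smul]
    exact Submodule.smul_mem _ _ (hFm s (Finset.mem_coe.mpr (Finset.mem_image.mpr ⟨(i, l), Finset.mem_univ _, rfl⟩)))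
  let p : ℕ → Prop := fun r => ∃ v : V, v ≠ 0 ∧ ∀ i, coeffMap (A := B) (b.coord i) v ∈ F s r
  have hex : ∃ r, p r := ⟨m s, v₀, hv₀, fun i => hcoef i v₀⟩
  obtain ⟨r, hr⟩ := Nat.exists_eq_succ_of_ne_zero (n := Nat.find hex) fun h0 => by
    obtain ⟨v, hv0, hv⟩ := h0 ▸ Nat.find_spec hex
    refine hv0 (b.forall_coord_eq_zero_iff.mp fun i => ?_)
    have := hv i
    rw [hF0, Submodule.mem_bot] at this
    rw [← counit_coeffMap (A := B) (b.coord i) v, this, map_zero]
  obtain ⟨v, hv0, hv⟩ := hr ▸ Nat.find_spec hex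
  refine (Submodule.ne_bot_iff _).mpr ⟨v, ComodLib.ext_of_forall_slice_eq fun φ => ?_, hv0⟩
  rw [slice_tmul, ← sub_eq_zero]
  by_contra hne
  refine Nat.find_min hex (show r < Nat.find hex by omega) ⟨_, hne, fun i => ?_⟩
  rw [map_sub, map_smul, show slice φ (HopfRep.Comod.coact (k := k) (A := B) v) = actF φ v from rfl,
    ComodLib.comodHom_actF (isComodHom_coeffMap (A := B) (b.coord i)) φ v]
  exact hF s r _ (hv i) φ

/-- Trigonalizability from filtered finite pieces of the regular comodule. -/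
theorem isTrigonalizable_of_exhaust
    (h : ∀ s : Finset B, ∃ (m : ℕ) (F : ℕ → Submodule k B), F 0 = ⊥ ∧ ↑s ⊆ (F m : Set B) ∧
      (∀ i, ∀ b ∈ F i, ∀ φ : B →ₗ[k] k, slice φ (Coalgebra.comul (R := k) b) ∈ F i) ∧
      ∀ i, ∀ a ∈ F (i + 1), a ∉ F i → ∀ b ∈ F (i + 1), ∃ c : k, b - c • a ∈ F i) :
    HopfRep.IsTrigonalizable k B := by
  classical
  intro V _ _ c _ hsimple
  haveI := hsimple.1
  obtain ⟨v₀, hv₀⟩ := exists_ne (0 : V)
  obtain ⟨f, hf⟩ := Module.Projective.exists_dual_ne_zero k hv₀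
  let j : V →ₗ[k] B := coeffMap f
  have hj : Hoch.IsComodHom B j := isComodHom_coeffMap f
  have hinj : ∀ x, j x = 0 → x = 0 := by
    intro x hx
    rcases hsimple.2 _ (ComodLib.isSubcomod_ker hj) with h' | h'
    · exact (Submodule.mem_bot k).mp (h' ▸ LinearMap.mem_ker.mpr hx)
    · have : j v₀ = 0 := LinearMap.mem_ker.mp (h' ▸ Submodule.mem_top)
      exact absurd (by rw [← counit_coeffMap (A := B) f v₀, show coeffMap (A := B) f v₀ = 0 from this, map_zero]) hf
  choose m F hF0 hFm hFs hF using h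
  let s : Finset B := Finset.univ.image fun l => j (Module.finBasis k V l)
  have hall : ∀ v, j v ∈ F s (m s) := fun v => by
    rw [← (Module.finBasis k V).sum_repr v, map_sum]
    refine Submodule.sum_mem _ fun l _ => ?_
    rw [map_smul]
    exact Submodule.smul_mem _ _ (hFm s (Finset.mem_coe.mpr (Finset.mem_image.mpr ⟨l, Finset.mem_univ _, rfl⟩)))
  have hsub : ∀ r, HopfRep.IsSubcomod (k := k) (A := B) ((F s r).comap j) := fun r =>
    ComodLib.isSubcomod_iff_actF.mpr fun φ v hv => by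
      rw [Submodule.mem_comap, ComodLib.comodHom_actF hj φ v]
      exact hFs s r _ hv φ
  let p : ℕ → Prop := fun r => (F s r).comap j ≠ ⊥
  have hex : ∃ r, p r := ⟨m s, (Submodule.ne_bot_iff _).mpr ⟨v₀, hall v₀, hv₀⟩⟩
  obtain ⟨r, hr⟩ := Nat.exists_eq_succ_of_ne_zero (n := Nat.find hex) fun h0 => by
    refine (h0 ▸ Nat.find_spec hex : p 0) ?_
    rw [hF0, Submodule.eq_bot_iff]
    exact fun x hx => hinj x ((Submodule.mem_bot k).mp hx)
  have htop : (F s (r + 1)).comap j = ⊤ := (hsimple.2 _ (hsub _)).resolve_left (show p (r + 1) by have := Nat.find_spec hex; rwa [hr] at this)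
  have hbot : (F s r).comap j = ⊥ := not_not.mp (Nat.find_min hex (show r < Nat.find hex by omega))
  have hmem : ∀ v, j v ∈ F s (r + 1) := fun v => Submodule.mem_comap.mp (htop ▸ Submodule.mem_top)
  have hzero : ∀ v, j v ∈ F s r → v = 0 := fun v hv => (Submodule.mem_bot k).mp (hbot ▸ Submodule.mem_comap.mpr hv)
  refine finrank_eq_one v₀ hv₀ fun v => ?_
  obtain ⟨c, hc⟩ := hF s r (j v₀) (hmem v₀) (fun h => hv₀ (hzero v₀ h)) (j v) (hmem v)
  rw [← map_smul, ← map_sub] at hc
  exact ⟨c, (sub_eq_zero.mp (hzero _ hc)).symm⟩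

end Exhaust

section Fibres

variable (A : Type u) [CommRing A] (K : Type u) [Field K] [Algebra A K] (k : Type u) [Field k] [Algebra A k]
  (H : Type u) [CommRing H] [HopfAlgebra A H] [Module.Flat A H]

/-- The generic fibre inclusion. -/
noncomputable def ιK : H →ₗ[A] K ⊗[A] H := TensorProduct.mk A K H 1

theorem comul_one_tmul' (R : Type u) [CommRing R] [Algebra A R] (a : H) :
    CoalgebraStruct.comul (R := R) ((1 : R) ⊗ₜ[A] a) =
      AlgebraTensorModule.distribBaseChange A R H H ((1 : R) ⊗ₜ[A] CoalgebraStruct.comul (R := A) a) := by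
  rw [TensorProduct.comul_tmul, show CoalgebraStruct.comul (R := R) (1 : R) = (1 : R) ⊗ₜ[R] (1 : R) from Bialgebra.comul_one]
  induction CoalgebraStruct.comul (R := A) a using TensorProduct.induction_on with
  | zero => simp
  | tmul u w => simp [AlgebraTensorModule.distribBaseChange]
  | add u w hu hw => simp only [TensorProduct.tmul_add, map_add, hu, hw]

variable {A K H}

/-- The lattice of a subspace of the generic fibre. -/
noncomputable def lat (P : Submodule K (K ⊗[A] H)) : Submodule A H := (P.restrictScalars A).comap (ιK A K H)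

/-- Its image in the special fibre. -/
noncomputable def red (P : Submodule K (K ⊗[A] H)) : Submodule k (k ⊗[A] H) :=
  Submodule.span k ((fun h => (1 : k) ⊗ₜ[A] h) '' (lat P : Set H))

/-- Elements with generic slices in `P` have special slices in the reduction of `P`. -/
theorem slice_mem_red (P : Submodule K (K ⊗[A] H)) (z : H ⊗[A] H)
    (hz : ∀ φ : (K ⊗[A] H) →ₗ[K] K, slice φ (AlgebraTensorModule.distribBaseChange A K H H ((1 : K) ⊗ₜ[A] z)) ∈ P)
    (φ : (k ⊗[A] H) →ₗ[k] k) :
    slice φ (AlgebraTensorModule.distribBaseChange A k H H ((1 : k) ⊗ₜ[A] z)) ∈ red k P := by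
  let W := (K ⊗[A] H) ⧸ P
  let g : H ⧸ lat P →ₗ[A] W := (lat P).liftQ (P.mkQ.restrictScalars A ∘ₗ ιK A K H)
    fun h hh => (Submodule.Quotient.mk_eq_zero P).mpr hh
  have hg : Function.Injective g := by
    rw [injective_iff_map_eq_zero]
    intro x hx
    obtain ⟨h, rfl⟩ := (lat P).mkQ_surjective x
    exact (Submodule.Quotient.mk_eq_zero (lat P)).mpr ((Submodule.Quotient.mk_eq_zero P).mp hx)
  have h1 : P.mkQ.rTensor (K ⊗[A] H) (AlgebraTensorModule.distribBaseChange A K H H ((1 : K) ⊗ₜ[A] z)) = 0 :=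
    ComodLib.eq_zero_of_forall_slice_eq_zero fun ψ => by
      rw [ComodLib.slice_rTensor]
      exact (Submodule.Quotient.mk_eq_zero P).mpr (hz ψ)
  have h2 : g.rTensor H ((lat P).mkQ.rTensor H z) = 0 := by
    have h3 := congrArg (AlgebraTensorModule.cancelBaseChange A K K W H) h1
    rw [map_zero] at h3
    refine Eq.trans ?_ h3
    clear h1 h3 hz
    induction z using TensorProduct.induction_on with
    | zero => simp
    | tmul p q => simp [AlgebraTensorModule.distribBaseChange, g, ιK, W]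
    | add p q hp hq => simp only [TensorProduct.tmul_add, map_add, hp, hq]
  obtain ⟨y, hy⟩ := (rTensor_exact H (LinearMap.exact_subtype_mkQ (lat P)) (lat P).mkQ_surjective z).mp
    (Module.Flat.rTensor_preserves_injective_linearMap g hg (h2.trans (map_zero _).symm))
  rw [← hy]
  clear hy h2 h1 hz
  induction y using TensorProduct.induction_on with
  | zero => simp
  | tmul p q =>
    simp only [LinearMap.rTensor_tmul, Submodule.subtype_apply]
    rw [show AlgebraTensorModule.distribBaseChange A k H H ((1 : k) ⊗ₜ[A] ((p : H) ⊗ₜ[A] q)) =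
      ((1 : k) ⊗ₜ[A] (p : H)) ⊗ₜ[k] ((1 : k) ⊗ₜ[A] q) by simp [AlgebraTensorModule.distribBaseChange], slice_tmul]
    exact Submodule.smul_mem _ _ (Submodule.subset_span ⟨p, p.2, rfl⟩)
  | add p q hp hq => simp only [TensorProduct.tmul_add, map_add]; exact Submodule.add_mem _ hp hq

theorem red_bot [IsDomain A] [IsFractionRing A K] : red (K := K) k (⊥ : Submodule K (K ⊗[A] H)) = ⊥ := by
  have hinj : Function.Injective (ιK A K H) := by
    have h := Module.Flat.rTensor_preserves_injective_linearMap (M := H) (Algebra.linearMap A K)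
      (IsFractionRing.injective A K)
    intro x y hxy
    have e : ∀ w, (Algebra.linearMap A K).rTensor H ((1 : A) ⊗ₜ[A] w) = ιK A K H w := fun w => by simp [ιK]
    have := h (a₁ := (1 : A) ⊗ₜ[A] x) (a₂ := (1 : A) ⊗ₜ[A] y) (by rw [e, e, hxy])
    simpa using congrArg (TensorProduct.lid A H) this
  rw [red, Submodule.span_eq_bot]
  rintro _ ⟨h, hh, rfl⟩
  rw [show h = 0 from hinj (((Submodule.mem_bot K).mp hh).trans (map_zero _).symm)]
  exact TensorProduct.tmul_zero _ _

variable (hk : Function.Surjective (algebraMap A k))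

include hk in
theorem exists_lift (x : k ⊗[A] H) : ∃ h : H, (1 : k) ⊗ₜ[A] h = x := by
  induction x using TensorProduct.induction_on with
  | zero => exact ⟨0, TensorProduct.tmul_zero _ _⟩
  | tmul r h =>
    obtain ⟨a, rfl⟩ := hk r
    exact ⟨a • h, by rw [TensorProduct.tmul_smul, TensorProduct.smul_tmul', Algebra.algebraMap_eq_smul_one]⟩
  | add p q hp hq =>
    obtain ⟨x, rfl⟩ := hp
    obtain ⟨y, rfl⟩ := hq
    exact ⟨x + y, TensorProduct.tmul_add _ _ _⟩

include hk in
theorem mem_red_iff (P : Submodule K (K ⊗[A] H)) (x : k ⊗[A] H) :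
    x ∈ red k P ↔ ∃ h ∈ lat P, (1 : k) ⊗ₜ[A] h = x := by
  refine ⟨fun hx => ?_, fun ⟨h, hh, e⟩ => e ▸ Submodule.subset_span ⟨h, hh, rfl⟩⟩
  induction hx using Submodule.span_induction with
  | mem y hy => exact hy
  | zero => exact ⟨0, Submodule.zero_mem _, TensorProduct.tmul_zero _ _⟩
  | add p q _ _ hp hq =>
    obtain ⟨a, ha, rfl⟩ := hp
    obtain ⟨b, hb, rfl⟩ := hq
    exact ⟨a + b, Submodule.add_mem _ ha hb, TensorProduct.tmul_add _ _ _⟩
  | smul c p _ hp =>
    obtain ⟨a, ha, rfl⟩ := hp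
    obtain ⟨r, rfl⟩ := hk c
    exact ⟨r • a, Submodule.smul_mem _ _ ha, by rw [TensorProduct.tmul_smul, algebraMap_smul]⟩

include hk in
/-- A unipotent generic fibre has unipotent special fibre. -/
theorem isUnipotent_special [IsDomain A] [IsFractionRing A K] (hK : HopfRep.IsUnipotent K (K ⊗[A] H)) :
    HopfRep.IsUnipotent k (k ⊗[A] H) := by
  classical
  refine isUnipotent_of_exhaust fun s => ?_
  choose l hl using exists_lift k hk (H := H)
  obtain ⟨U, hUf, hsU, hU⟩ := ComodLib.exists_finite_subcomod_le (k := K) (C := K ⊗[A] H) (V := K ⊗[A] H)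
    ((s.finite_toSet).image fun x => ιK A K H (l x))
  let cU : HopfRep.Comod K (K ⊗[A] H) U := ComodSub.Comod.restr (HopfRep.Comod.regular K (K ⊗[A] H)) U hU
  letI := cU
  obtain ⟨m, F, -, h0, hm, -, hstep⟩ := ComodLib.isUnipotent_iff_filtration.mp hK U hUf
  refine ⟨m, fun i => red k ((F i).map U.subtype), ?_, fun x hx => ?_, ?_⟩
  · show red k ((F 0).map U.subtype) = ⊥
    rw [h0, Submodule.map_bot, red_bot]
  · show x ∈ red k ((F m).map U.subtype)
    rw [hm, Submodule.map_subtype_top, mem_red_iff k hk]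
    exact ⟨l x, hsU ⟨x, hx, rfl⟩, hl x⟩
  intro i b hb φ
  obtain ⟨h, hh, rfl⟩ := (mem_red_iff k hk _ _).mp hb
  obtain ⟨y, hy, hyh⟩ := Submodule.mem_comap.mp hh
  have key := slice_mem_red k ((F i).map U.subtype) (Coalgebra.comul (R := A) h - h ⊗ₜ[A] (1 : H)) (fun ψ => ?_) φ
  · rw [TensorProduct.tmul_sub, map_sub, map_sub, ← comul_one_tmul',
      show AlgebraTensorModule.distribBaseChange A k H H ((1 : k) ⊗ₜ[A] (h ⊗ₜ[A] (1 : H))) =
        ((1 : k) ⊗ₜ[A] h) ⊗ₜ[k] (1 : k ⊗[A] H) by
          simp [AlgebraTensorModule.distribBaseChange, Algebra.TensorProduct.one_def], slice_tmul] at key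
    exact key
  rw [TensorProduct.tmul_sub, map_sub, ← comul_one_tmul',
    show AlgebraTensorModule.distribBaseChange A K H H ((1 : K) ⊗ₜ[A] (h ⊗ₜ[A] (1 : H))) =
      ((1 : K) ⊗ₜ[A] h) ⊗ₜ[K] (1 : K ⊗[A] H) by
        simp [AlgebraTensorModule.distribBaseChange, Algebra.TensorProduct.one_def]]
  refine (ComodLib.mem_range_rTensor_subtype_iff _ _).mp ?_ ψ
  obtain ⟨z, hz⟩ := hstep i y hy
  let e : F i →ₗ[K] (F i).map U.subtype :=
    (U.subtype ∘ₗ (F i).subtype).codRestrict _ fun x => ⟨x, x.2, rfl⟩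
  refine ⟨e.rTensor (K ⊗[A] H) z, ?_⟩
  rw [← LinearMap.rTensor_comp_apply, show ((F i).map U.subtype).subtype ∘ₗ e = U.subtype ∘ₗ (F i).subtype from rfl,
    LinearMap.rTensor_comp_apply, hz, map_sub, ComodSub.restr_coact_coe _ U hU y, LinearMap.rTensor_tmul, hyh]
  exact congrArg (· - _) (congrArg (Coalgebra.comul (R := K)) hyh)

include hk in
/-- A trigonalizable generic fibre has trigonalizable special fibre. -/
theorem isTrigonalizable_special [IsDomain A] [IsDiscreteValuationRing A] [IsFractionRing A K]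
    (hm : ∀ a ∈ IsLocalRing.maximalIdeal A, algebraMap A k a = 0)
    (hK : HopfRep.IsTrigonalizable K (K ⊗[A] H)) :
    HopfRep.IsTrigonalizable k (k ⊗[A] H) := by
  classical
  refine isTrigonalizable_of_exhaust fun s => ?_
  choose l hl using exists_lift k hk (H := H)
  obtain ⟨U, hUf, hsU, hU⟩ := ComodLib.exists_finite_subcomod_le (k := K) (C := K ⊗[A] H) (V := K ⊗[A] H)
    ((s.finite_toSet).image fun x => ιK A K H (l x))
  let cU : HopfRep.Comod K (K ⊗[A] H) U := ComodSub.Comod.restr (HopfRep.Comod.regular K (K ⊗[A] H)) U hU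
  letI := cU
  obtain ⟨F, hmono, hsub, htop, hrank⟩ := ComodLib.exists_flag hK U
  have hF0 : F 0 = ⊥ := Submodule.finrank_eq_zero.mp (hrank 0 (Nat.zero_le _))
  refine ⟨Module.finrank K U, fun i => red k ((F i).map U.subtype), ?_, fun x hx => ?_, ?_, ?_⟩
  · show red k ((F 0).map U.subtype) = ⊥
    rw [hF0, Submodule.map_bot, red_bot]
  · show x ∈ red k ((F _).map U.subtype)
    rw [htop, Submodule.map_subtype_top, mem_red_iff k hk]
    exact ⟨l x, hsU ⟨x, hx, rfl⟩, hl x⟩
  · intro i b hb φ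
    obtain ⟨h, hh, rfl⟩ := (mem_red_iff k hk _ _).mp hb
    obtain ⟨y, hy, hyh⟩ := Submodule.mem_comap.mp hh
    rw [comul_one_tmul']
    refine slice_mem_red k _ _ (fun ψ => ?_) φ
    rw [← comul_one_tmul']
    refine (ComodLib.mem_range_rTensor_subtype_iff _ _).mp ?_ ψ
    obtain ⟨z, hz⟩ := hsub i y hy
    let e : F i →ₗ[K] (F i).map U.subtype :=
      (U.subtype ∘ₗ (F i).subtype).codRestrict _ fun x => ⟨x, x.2, rfl⟩
    refine ⟨e.rTensor (K ⊗[A] H) z, ?_⟩
    rw [← LinearMap.rTensor_comp_apply, show ((F i).map U.subtype).subtype ∘ₗ e = U.subtype ∘ₗ (F i).subtype from rfl,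
      LinearMap.rTensor_comp_apply, hz, ComodSub.restr_coact_coe _ U hU y]
    exact congrArg (Coalgebra.comul (R := K)) hyh
  intro i a ha hai b hb
  obtain ⟨x, hx, rfl⟩ := (mem_red_iff k hk _ _).mp ha
  obtain ⟨y, hy, rfl⟩ := (mem_red_iff k hk _ _).mp hb
  obtain ⟨ux, hux, huxe⟩ := Submodule.mem_comap.mp hx
  obtain ⟨uy, huy, huye⟩ := Submodule.mem_comap.mp hy
  have hxi : ux ∉ F i := fun h => hai ((mem_red_iff k hk _ _).mpr ⟨x, Submodule.mem_comap.mpr ⟨ux, h, huxe⟩, rfl⟩)
  have hi : i < Module.finrank K U := by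
    by_contra h
    exact hxi ((htop.ge.trans (hmono (not_lt.mp h))) Submodule.mem_top)
  -- the quotient `F (i+1) / F i` is a line spanned by `ux`
  have hsup : F i ⊔ Submodule.span K {ux} = F (i + 1) := by
    refine Submodule.eq_of_le_of_finrank_le
      (sup_le (hmono (Nat.le_succ i)) ((Submodule.span_singleton_le_iff_mem _ _).mpr hux)) ?_
    have hlt : F i < F i ⊔ Submodule.span K {ux} := lt_of_le_of_ne le_sup_left fun h =>
      hxi (h ▸ Submodule.mem_sup_right (Submodule.mem_span_singleton_self ux))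
    have h3 := Submodule.finrank_lt_finrank_of_lt hlt
    rw [hrank (i + 1) hi]
    rw [hrank i (le_of_lt hi)] at h3
    omega
  obtain ⟨p, hp, q, hq, hpq⟩ := Submodule.mem_sup.mp (hsup.ge huy)
  obtain ⟨c, rfl⟩ := Submodule.mem_span_singleton.mp hq
  -- `c` or its inverse is integral
  have key : ∀ (t : A) (h : H), (∃ u ∈ F i, ((u : U) : K ⊗[A] H) = ιK A K H h) → (1 : k) ⊗ₜ[A] h ∈ red k ((F i).map U.subtype) :=
    fun t h hh => by
      obtain ⟨u, hu, hue⟩ := hh
      exact (mem_red_iff k hk _ _).mpr ⟨h, Submodule.mem_comap.mpr ⟨u, hu, hue⟩, rfl⟩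
  rcases ValuationRing.isInteger_or_isInteger A c with ⟨a, ha⟩ | ⟨a, ha⟩
  · refine ⟨algebraMap A k a, ?_⟩
    rw [algebraMap_smul, ← TensorProduct.tmul_smul, ← TensorProduct.tmul_sub]
    refine key a _ ⟨p, hp, ?_⟩
    rw [map_sub, map_smul, ← huxe, ← huye, ← hpq, ← algebraMap_smul K a, ha, Submodule.subtype_apply,
      Submodule.subtype_apply, Submodule.coe_add, Submodule.coe_smul, add_sub_cancel_right]
  · by_cases hc : c = 0
    · refine ⟨0, ?_⟩
      rw [zero_smul, sub_zero]
      refine key 0 _ ⟨p, hp, ?_⟩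
      rw [← huye, ← hpq, hc, zero_smul, add_zero]
      rfl
    have hmem : ((a • y - x : H)) ∈ lat ((F i).map U.subtype) := by
      refine Submodule.mem_comap.mpr ⟨c⁻¹ • p, Submodule.smul_mem _ _ hp, ?_⟩
      rw [map_sub, (ιK A K H).map_smul, ← huxe, ← huye, ← hpq, ← algebraMap_smul K a, ha, Submodule.subtype_apply,
        Submodule.subtype_apply, Submodule.subtype_apply, Submodule.coe_add, Submodule.coe_smul, Submodule.coe_smul,
        smul_add, smul_smul, inv_mul_cancel₀ hc, one_smul, add_sub_cancel_right]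
    have hred : algebraMap A k a • ((1 : k) ⊗ₜ[A] y) - (1 : k) ⊗ₜ[A] x ∈ red k ((F i).map U.subtype) := by
      rw [algebraMap_smul, ← TensorProduct.tmul_smul, ← TensorProduct.tmul_sub]
      exact (mem_red_iff k hk _ _).mpr ⟨_, hmem, rfl⟩
    by_cases hu : IsUnit a
    · refine ⟨(algebraMap A k a)⁻¹, ?_⟩
      have := Submodule.smul_mem _ (algebraMap A k a)⁻¹ hred
      rwa [smul_sub, smul_smul, inv_mul_cancel₀ (hu.map (algebraMap A k)).ne_zero, one_smul] at this
    · refine absurd ?_ hai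
      rw [hm a ((IsLocalRing.mem_maximalIdeal a).mpr hu), zero_smul, zero_sub] at hred
      exact neg_mem_iff.mp hred

end Fibres

end Groth.Agent.TakeuchiLib
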